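import Cfsg.Agent.Lib.FFourLocal.Cent.CentA
import Mathlib.LinearAlgebra.Matrix.SpecialLinearGroup
import Mathlib.Data.ZMod.Basic

/-!
# `a` is no point; the action of `C(Z) ∩ C(a)` on `Q₂ / Z` as `SL₂(3)`
-/

set_option autoImplicit false
set_option linter.unusedSectionVars false
set_option linter.style.haveILetI false

namespace Cfsg.Agent.FFourLocal

open Subgroup
open scoped commutatorElement Matrix MatrixGroups

universe u

variable {G : Type u} [Group G] {Z Q Q1 Q2 L1 L2 E : Subgroup G} {t1 t2 z y a b : G}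

theorem card_prod_eq [Finite G] {A B : Subgroup G} (h : B ≤ normalizer (A : Set G)) :
    Nat.card ↥(A ⊔ B) * Nat.card ↥(A ⊓ B) = Nat.card A * Nat.card B := by
  set H := A ⊔ B
  haveI : (A.subgroupOf H).Normal :=
    normal_subgroupOf_of_le_normalizer (sup_le le_normalizer h)
  have htop : B.subgroupOf H ⊔ A.subgroupOf H = ⊤ := by
    rw [← subgroupOf_sup le_sup_right le_sup_left, sup_comm B A, subgroupOf_self]
  have h1 : A.relIndex H = A.relIndex B := by
    rw [← relIndex_subgroupOf (H := A) (le_refl H), subgroupOf_self, ← htop,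
      relIndex_sup_right, relIndex_subgroupOf (le_sup_right : B ≤ H)]
  have h2 : Nat.card A * A.relIndex H = Nat.card H := by
    rw [← relIndex_bot_left, ← relIndex_bot_left, relIndex_mul_relIndex ⊥ _ _ bot_le le_sup_left]
  have h3 : Nat.card ↥(A ⊓ B) * A.relIndex B = Nat.card B := by
    rw [← relIndex_bot_left, ← inf_relIndex_right A B, ← relIndex_bot_left,
      relIndex_mul_relIndex ⊥ _ _ bot_le inf_le_right]
  rw [← h2, h1, ← h3]
  ring

namespace Base

variable (B : Base Z Q Q1 Q2 L1 L2 t1 t2)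
include B

theorem inf_factors {x : G} (h1 : x ∈ Q1) (h2 : x ∈ Q2) : x ∈ Z := by
  refine B.mem_Z_of_comm (B.le1 h1) fun u hu => ?_
  obtain ⟨v, hv, w, hw, rfl⟩ := B.mem_Q_split hu
  exact Commute.mul_left (B.Q_comm v hv x h2) (B.Q_comm x h1 w hw).symm

end Base

namespace Local

variable (D : Local Z Q Q1 Q2 L1 L2 E t1 t2 z y a b)
include D

/-- `a` is not conjugate to `z`. -/
theorem not_pt [Finite G] (g : G) : g * z * g⁻¹ ≠ a := by
  intro hga
  haveI : Fact (Nat.Prime 3) := ⟨Nat.prime_three⟩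
  set c := (MulAut.conj g).toMonoidHom with hc
  set R := Q.map c with hR
  have hinj : Function.Injective c := (MulAut.conj g).injective
  have hCa : ∀ x : G, x * a = a * x → g⁻¹ * x * g ∈ centralizer (Z : Set G) := fun x hx => D.mem_centZ.2 (by
    calc g⁻¹ * x * g * z = g⁻¹ * (x * (g * z * g⁻¹)) * g := by group
      _ = g⁻¹ * (g * z * g⁻¹ * x) * g := by rw [hga, hx]
      _ = _ := by group)
  have hn : ∀ x : G, x * a = a * x → ∀ r ∈ R, x * r * x⁻¹ ∈ R := by
    rintro x hx _ ⟨r, hr, rfl⟩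
    refine ⟨g⁻¹ * x * g * r * (g⁻¹ * x * g)⁻¹, D.base.conj_memQ (hCa x hx) hr, ?_⟩
    simp only [hc, MulEquiv.coe_toMonoidHom, MulAut.conj_apply]
    group
  have hQ2a : ∀ x ∈ Q2, x * a = a * x := fun x hx => (D.base.Q_comm a D.a_mem x hx).symm
  have hQ2R : Q2 ≤ normalizer (R : Set G) := fun x hx => mem_normalizer_iff.2 fun r =>
    ⟨hn x (hQ2a x hx) r, fun h => by
      have := hn x⁻¹ ((show Commute x a from hQ2a x hx).inv_left).eq _ h
      simpa [mul_assoc] using this⟩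
  have hp : IsPGroup 3 ↥(R ⊔ Q2) :=
    IsPGroup.to_sup_of_normal_left'
      ((IsPGroup.of_card (n := 5) (by rw [D.base.Q_card]; norm_num)).map c)
      (IsPGroup.of_card (n := 3) (by rw [D.base.card2]; norm_num)) hQ2R
  have hdvd : Nat.card ↥(R ⊔ Q2) ∣ 729 := by
    have := D.small ((R ⊔ Q2).map (MulAut.conj g⁻¹).toMonoidHom) (hp.map _) ?_
    · rwa [card_map_of_injective (MulAut.conj g⁻¹).injective] at this
    · rw [map_le_iff_le_comap]
      refine sup_le ?_ fun x hx => ?_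
      · rintro _ ⟨r, hr, rfl⟩
        simp only [mem_comap, hc, MulEquiv.coe_toMonoidHom, MulAut.conj_apply]
        rw [show g⁻¹ * (g * r * g⁻¹) * g⁻¹⁻¹ = r by group]
        exact D.base.Q_le hr
      · simp only [mem_comap, MulEquiv.coe_toMonoidHom, MulAut.conj_apply, inv_inv]
        exact hCa x (hQ2a x hx)
  set I := R ⊓ Q2 with hI
  have hmul := card_prod_eq hQ2R
  rw [card_map_of_injective hinj, D.base.Q_card, D.base.card2] at hmul
  have h729 := Nat.le_of_dvd (by norm_num) hdvd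
  obtain ⟨r, hrI, hrZ⟩ : ∃ r ∈ I, r ∉ Z := by
    by_contra hall
    push Not at hall
    have h3 := Subgroup.card_le_of_le (show I ≤ Z from hall)
    rw [D.base.Z_card] at h3
    have hle := Nat.mul_le_mul h729 h3
    rw [hI] at hle
    rw [hmul] at hle
    omega
  -- the orbit of `L2` fills `Q2`
  have horb : ∀ u ∈ Q2, ∃ w ∈ I, w⁻¹ * u ∈ Z := by
    intro u hu
    by_cases huZ : u ∈ Z
    · exact ⟨1, one_mem _, by rwa [inv_one, one_mul]⟩
    obtain ⟨l, hl, w, hw, e⟩ := D.base.trans2 r hrI.2 hrZ u hu huZ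
    have hla : l * a = a * l := (mem_centralizer_iff.1 (D.base.L2_cent hl) a D.a_mem).symm
    exact ⟨l * r * l⁻¹, ⟨hn l hla r hrI.1, (mem_normalizer_iff.1 (D.base.L2_norm hl) r).1 hrI.2⟩,
      by rw [← e, inv_mul_cancel_left]; exact hw⟩
  obtain ⟨s, hs, hbs⟩ := D.base.exists_partner D.base.le2 (fun u hu v hv => (D.base.Q_comm v hv u hu).symm)
    (by rw [sup_comm]; exact D.base.Q_prod) D.b_mem D.b_not D.z_mem
  obtain ⟨b', hb', hbZ⟩ := horb b D.b_mem
  obtain ⟨s', hs', hsZ⟩ := horb s hs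
  have hzR : z ∈ R := by
    have hb'Q := D.base.le2 hb'.2
    have hs'Q := D.base.le2 hs'.2
    have e : ⁅b', s'⁆ = z := by
      have hzc : ∀ u ∈ Q, ∀ v ∈ Z, ⁅v, u⁆ = 1 := fun u hu v hv =>
        D.base.br_eq_one.2 (D.base.Z_comm hu hv).symm
      have e1 : ⁅b, s⁆ = ⁅b', s⁆ := by
        conv_lhs => rw [show b = b' * (b'⁻¹ * b) by group]
        rw [D.base.br_mul_left hb'Q (D.base.Z_leQ hbZ) (D.base.le2 hs), hzc _ (D.base.le2 hs) _ hbZ, mul_one]
      have e2 : ⁅s, b'⁆ = ⁅s', b'⁆ := by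
        conv_lhs => rw [show s = s' * (s'⁻¹ * s) by group]
        rw [D.base.br_mul_left hs'Q (D.base.Z_leQ hsZ) hb'Q, hzc _ hb'Q _ hsZ, mul_one]
      rw [← commutatorElement_inv s' b', ← e2, commutatorElement_inv, ← e1, hbs]
    rw [← e, commutatorElement_def]
    exact mul_mem (mul_mem (mul_mem hb'.1 hs'.1) (inv_mem hb'.1)) (inv_mem hs'.1)
  -- `z` would be central in the conjugate radical
  have hza : g⁻¹ * z * g ∈ Z := by
    obtain ⟨w, hw, hwz⟩ := hzR
    simp only [hc, MulEquiv.coe_toMonoidHom, MulAut.conj_apply] at hwz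
    have hb'c : g⁻¹ * b' * g ∈ Q := by
      obtain ⟨v, hv, e⟩ := hb'.1
      simp only [hc, MulEquiv.coe_toMonoidHom, MulAut.conj_apply] at e
      rw [← e]
      simpa [mul_assoc] using hv
    have hs'c : g⁻¹ * s' * g ∈ Q := by
      obtain ⟨v, hv, e⟩ := hs'.1
      simp only [hc, MulEquiv.coe_toMonoidHom, MulAut.conj_apply] at e
      rw [← e]
      simpa [mul_assoc] using hv
    have e : ⁅b', s'⁆ = z := by
      have hzc : ∀ u ∈ Q, ∀ v ∈ Z, ⁅v, u⁆ = 1 := fun u hu v hv =>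
        D.base.br_eq_one.2 (D.base.Z_comm hu hv).symm
      have e1 : ⁅b, s⁆ = ⁅b', s⁆ := by
        conv_lhs => rw [show b = b' * (b'⁻¹ * b) by group]
        rw [D.base.br_mul_left (D.base.le2 hb'.2) (D.base.Z_leQ hbZ) (D.base.le2 hs),
          hzc _ (D.base.le2 hs) _ hbZ, mul_one]
      have e2 : ⁅s, b'⁆ = ⁅s', b'⁆ := by
        conv_lhs => rw [show s = s' * (s'⁻¹ * s) by group]
        rw [D.base.br_mul_left (D.base.le2 hs'.2) (D.base.Z_leQ hsZ) (D.base.le2 hb'.2),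
          hzc _ (D.base.le2 hb'.2) _ hsZ, mul_one]
      rw [← commutatorElement_inv s' b', ← e2, commutatorElement_inv, ← e1, hbs]
    have := D.base.br_mem hb'c hs'c
    rw [show g⁻¹ * z * g = ⁅g⁻¹ * b' * g, g⁻¹ * s' * g⁆ by rw [← e]; simp only [commutatorElement_def]; group]
    exact this
  have hza' : g⁻¹ * z * g ∈ zpowers z := D.z_gen ▸ hza
  obtain ⟨k, hk⟩ := mem_zpowers_iff.1 hza'
  have : z = a ^ k := by
    rw [← hga, conj_zpow, hk]
    group
  have hzQ : z ∈ zpowers a := mem_zpowers_iff.2 ⟨k, this.symm⟩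
  haveI : Fact (Nat.Prime 3) := ⟨Nat.prime_three⟩
  have hle : zpowers z ≤ zpowers a := zpowers_le.2 hzQ
  have := Subgroup.eq_of_le_of_card_ge hle (by
    rw [Nat.card_zpowers, Nat.card_zpowers, orderOf_three D.a3 D.a_ne, orderOf_three D.z3 D.z_ne])
  exact D.a_not (D.z_gen ▸ this.ge (mem_zpowers a))

/-- The exponent of an element of `⟨z⟩`. -/
noncomputable def lg (_D : Local Z Q Q1 Q2 L1 L2 E t1 t2 z y a b) (w : G) : ZMod 3 := by
  classical
  exact if h : ∃ n : Fin 3, z ^ (n : ℕ) = w then ((h.choose : ℕ) : ZMod 3) else 0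

theorem pow_zmod_eq {i j : ZMod 3} (h : z ^ i.val = z ^ j.val) : i = j := by
  have := pow_inj_three D.z3 D.z_ne (i := ⟨i.val, i.val_lt⟩) (j := ⟨j.val, j.val_lt⟩) h
  exact ZMod.val_injective 3 (congrArg Fin.val this)

variable [Finite G]

theorem lg_spec {w : G} (hw : w ∈ Z) : z ^ (D.lg w).val = w := by
  classical
  have hex : ∃ n : Fin 3, z ^ (n : ℕ) = w := by
    rw [← D.z_gen] at hw
    obtain ⟨n, rfl⟩ := ((mem_powers_iff_mem_zpowers.2 hw : w ∈ Submonoid.powers z))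
    exact ⟨⟨n % 3, Nat.mod_lt _ (by norm_num)⟩, (pow_mod_three D.z3 n).symm⟩
  unfold lg
  rw [dif_pos hex, ZMod.val_natCast, Nat.mod_eq_of_lt hex.choose.2]
  exact hex.choose_spec

theorem lg_eq {w : G} {n : ZMod 3} (hw : z ^ n.val = w) : D.lg w = n :=
  D.pow_zmod_eq ((D.lg_spec (hw ▸ pow_mem D.z_mem _)).trans hw.symm)

theorem lg_mul {v w : G} (hv : v ∈ Z) (hw : w ∈ Z) : D.lg (v * w) = D.lg v + D.lg w := D.lg_eq (by
  rw [ZMod.val_add, ← pow_mod_three D.z3, pow_add, D.lg_spec hv, D.lg_spec hw])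

theorem lg_one : D.lg 1 = 0 := D.lg_eq (by simp)

theorem lg_z : D.lg z = 1 := D.lg_eq (by rw [ZMod.val_one, pow_one])

end Local

end Cfsg.Agent.FFourLocal
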