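import Cfsg.Agent.Lib.FFourLocal.Cent.QTools

/-!
# The centralizers of `a` and of `E` inside `C(Z)`
-/

set_option autoImplicit false
set_option linter.unusedSectionVars false
set_option linter.style.haveILetI false

namespace Cfsg.Agent.FFourLocal

open Subgroup
open scoped commutatorElement

universe u

variable {G : Type u} [Group G] {Z Q Q1 Q2 L1 L2 E : Subgroup G} {t1 t2 z y a b : G}

namespace Local

variable (D : Local Z Q Q1 Q2 L1 L2 E t1 t2 z y a b)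
include D

theorem a_Q : a ∈ Q := D.base.le1 D.a_mem

theorem b_Q : b ∈ Q := D.base.le2 D.b_mem

theorem z_Q : z ∈ Q := D.base.Z_leQ D.z_mem

theorem z3 : z ^ 3 = 1 := D.base.cube z D.z_Q

theorem a3 : a ^ 3 = 1 := D.base.cube a D.a_Q

theorem b3 : b ^ 3 = 1 := D.base.cube b D.b_Q

theorem a_ne : a ≠ 1 := fun e => D.a_not (e ▸ one_mem Z)

theorem b_ne : b ≠ 1 := fun e => D.b_not (e ▸ one_mem Z)

theorem ab : Commute a b := D.base.Q_comm a D.a_mem b D.b_mem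

theorem za : Commute z a := (D.base.Z_comm D.a_Q D.z_mem).symm

theorem zb : Commute z b := (D.base.Z_comm D.b_Q D.z_mem).symm

theorem yz : Commute y z := D.base.fix_Z D.y_cent D.z_mem

theorem z_gen : zpowers z = Z := by
  refine le_antisymm (zpowers_le.2 D.z_mem) fun x hx => ?_
  haveI : Fact (Nat.Prime 3) := ⟨Nat.prime_three⟩
  have hz : (⟨z, D.z_mem⟩ : ↥Z) ≠ 1 := fun e => D.z_ne (congrArg Subtype.val e)
  have hmem : (⟨x, hx⟩ : ↥Z) ∈ zpowers (⟨z, D.z_mem⟩ : ↥Z) := by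
    rw [zpowers_eq_top_of_prime_card D.base.Z_card hz]
    exact mem_top _
  obtain ⟨k, hk⟩ := mem_zpowers_iff.1 hmem
  exact mem_zpowers_iff.2 ⟨k, congrArg Subtype.val hk⟩

theorem mem_centZ {g : G} : g ∈ centralizer (Z : Set G) ↔ g * z = z * g := by
  refine ⟨fun h => D.base.fix_Z h D.z_mem, fun h => mem_centralizer_iff.2 fun x hx => ?_⟩
  rw [SetLike.mem_coe, ← D.z_gen] at hx
  obtain ⟨k, rfl⟩ := mem_zpowers_iff.1 hx
  exact ((show Commute g z from h).zpow_right k).eq.symm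

theorem t1_cent : t1 ∈ centralizer (Z : Set G) := D.base.L1_le D.base.t1_mem

theorem t2_cent : t2 ∈ centralizer (Z : Set G) := D.base.L2_le D.base.t2_mem

theorem t1_sq : t1 * t1 = 1 := by
  rw [← pow_two, ← D.base.t1_two, pow_orderOf_eq_one]

theorem t2_sq : t2 * t2 = 1 := by
  rw [← pow_two, ← D.base.t2_two, pow_orderOf_eq_one]

/-- The roles of the two factors may be exchanged. -/
theorem symm : Local Z Q Q2 Q1 L2 L1 E t2 t1 z (y⁻¹ * z) b a := by
  obtain ⟨B, hsm, hzm, hzn, ham, han, hbm, hbn, hyc, hyn, hy3, hya, hyb, hyt1, hyt2, hta, htb, hE, hEc,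
    hEcomm, hEexp, ⟨g, g1, g2, g3, g4⟩, hsig, hcls, hd1, hd2⟩ := D
  have hz : ∀ c ∈ centralizer (Z : Set G), c * z = z * c := fun c hc => B.fix_Z hc hzm
  refine ⟨⟨B.Z_card, B.Q_card, B.Q_le, B.Q_norm, B.Z_eq, B.derived, B.cube, B.cent, B.le2, B.le1, B.card2,
    B.card1, B.Z2, B.Z1, fun u hu v hv => (B.Q_comm v hv u hu).symm, by rw [sup_comm]; exact B.Q_prod,
    B.L2_le, B.L1_le, B.L2_quat, B.L1_quat, fun u hu v hv => (B.L_comm v hv u hu).symm, B.L2_cent,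
    B.L1_cent, B.L2_norm, B.L1_norm, B.trans2, B.trans1, B.t2_mem, B.t1_mem, B.t2_two, B.t1_two, B.t2_inv,
    B.t1_inv, by rw [sup_comm L2 L1]; exact B.norm_L⟩, hsm, hzm, hzn, hbm, hbn, ham, han,
    mul_mem (inv_mem hyc) (B.Q_le (B.Z_leQ hzm)), fun h => hyn ?_, ?_, ?_, ?_, ?_, ?_, htb, hta, ?_, hEc,
    hEcomm, hEexp, ⟨g, g2, by rw [show (y⁻¹ * z)⁻¹ * z = z⁻¹ * (y * z) by group, (hz y hyc), inv_mul_cancel_left]; exact g1, g4,
      by rw [show (y⁻¹ * z)⁻¹ * z = z⁻¹ * (y * z) by group, (hz y hyc), inv_mul_cancel_left]; exact g3⟩, hsig, hcls, ?_, ?_⟩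
  · have := mul_mem h (inv_mem (B.Z_leQ hzm))
    rwa [mul_inv_cancel_right, inv_mem_iff] at this
  · have hc : Commute y⁻¹ z := (show Commute y z from hz y hyc).inv_left
    rw [hc.mul_pow, inv_pow, hy3, B.Z_cube hzm, inv_one, one_mul]
  · exact ((show Commute y b from hyb).inv_left.mul_left
      (B.Z_comm (B.le2 hbm) hzm).symm).eq
  · exact ((show Commute y a from hya).inv_left.mul_left
      (B.Z_comm (B.le1 ham) hzm).symm).eq
  · exact ((show Commute t2 y from hyt2).inv_right.mul_right (hz t2 (B.L2_le B.t2_mem))).eq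
  · exact ((show Commute t1 y from hyt1).inv_right.mul_right (hz t1 (B.L1_le B.t1_mem))).eq
  · refine le_antisymm (hE.le.trans ?_) (le_trans ?_ hE.ge)
    · refine sup_le (sup_le (sup_le ?_ ?_) ?_) (zpowers_le.2 ?_)
      · exact le_sup_left.trans (le_sup_left.trans le_sup_left)
      · exact le_sup_right.trans le_sup_left
      · exact le_sup_right.trans (le_sup_left.trans le_sup_left)
      · have e : z * (y⁻¹ * z)⁻¹ = y := by group
        have key : z * (y⁻¹ * z)⁻¹ ∈ zpowers z ⊔ zpowers b ⊔ zpowers a ⊔ zpowers (y⁻¹ * z) := mul_mem (mem_sup_left (mem_sup_left (mem_sup_left (mem_zpowers z))))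
          (inv_mem (mem_sup_right (mem_zpowers _)))
        rwa [e] at key
    · refine sup_le (sup_le (sup_le ?_ ?_) ?_) (zpowers_le.2 ?_)
      · exact le_sup_left.trans (le_sup_left.trans le_sup_left)
      · exact le_sup_right.trans le_sup_left
      · exact le_sup_right.trans (le_sup_left.trans le_sup_left)
      · exact mul_mem (inv_mem (mem_sup_right (mem_zpowers y)))
          (mem_sup_left (mem_sup_left (mem_sup_left (mem_zpowers z))))
  · obtain ⟨x, hx, hne⟩ := hd2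
    refine ⟨x, hx, fun h => hne ?_⟩
    have e : x⁻¹ * (y⁻¹ * z * x * (y⁻¹ * z)⁻¹) = x⁻¹ * (y⁻¹ * x * y) := by
      calc x⁻¹ * (y⁻¹ * z * x * (y⁻¹ * z)⁻¹) = x⁻¹ * (y⁻¹ * (z * x * z⁻¹) * y) := by group
        _ = _ := by rw [(B.Z_comm (B.le2 hx) hzm).symm.eq, mul_inv_cancel_right]
    rw [e] at h
    have h2 : y * (x⁻¹ * (y⁻¹ * x * y))⁻¹ * y⁻¹ ∈ Z := by rw [B.conj_Z hyc (inv_mem h)]; exact inv_mem h
    have e2 : x⁻¹ * (y * x * y⁻¹) = y * (x⁻¹ * (y⁻¹ * x * y))⁻¹ * y⁻¹ := by group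
    rwa [e2]
  · obtain ⟨x, hx, hne⟩ := hd1
    refine ⟨x, hx, fun h => hne ?_⟩
    have e : x⁻¹ * (y⁻¹ * z * x * (y⁻¹ * z)⁻¹) = x⁻¹ * (y⁻¹ * x * y) := by
      calc x⁻¹ * (y⁻¹ * z * x * (y⁻¹ * z)⁻¹) = x⁻¹ * (y⁻¹ * (z * x * z⁻¹) * y) := by group
        _ = _ := by rw [(B.Z_comm (B.le1 hx) hzm).symm.eq, mul_inv_cancel_right]
    rw [e] at h
    have h2 : y * (x⁻¹ * (y⁻¹ * x * y))⁻¹ * y⁻¹ ∈ Z := by rw [B.conj_Z hyc (inv_mem h)]; exact inv_mem h
    have e2 : x⁻¹ * (y * x * y⁻¹) = y * (x⁻¹ * (y⁻¹ * x * y))⁻¹ * y⁻¹ := by group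
    rwa [e2]

theorem t2_a : t2 * a = a * t2 := (mem_centralizer_iff.1 (D.base.L2_cent D.base.t2_mem) a D.a_mem).symm

theorem t1_b : t1 * b = b * t1 := D.symm.t2_a

theorem z_E : z ∈ E := D.E_eq.ge (mem_sup_left (mem_sup_left (mem_sup_left (mem_zpowers z))))

theorem a_E : a ∈ E := D.E_eq.ge (mem_sup_left (mem_sup_left (mem_sup_right (mem_zpowers a))))

theorem b_E : b ∈ E := D.E_eq.ge (mem_sup_left (mem_sup_right (mem_zpowers b)))

theorem y_E : y ∈ E := D.E_eq.ge (mem_sup_right (mem_zpowers y))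

theorem E_le : E ≤ centralizer (Z : Set G) :=
  fun u hu => D.mem_centZ.2 (D.E_comm u hu z D.z_E)

end Local

namespace Base

variable (B : Base Z Q Q1 Q2 L1 L2 t1 t2)
include B

theorem mem_Q_split {x : G} (hx : x ∈ Q) : ∃ u ∈ Q1, ∃ v ∈ Q2, x = u * v := by
  have hn : Q2 ≤ normalizer (Q1 : Set G) := fun v hv => mem_normalizer_iff.2 fun u => by
    constructor
    · intro hu
      rw [(B.Q_comm u hu v hv).symm, mul_inv_cancel_right]
      exact hu
    · intro hu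
      have e := B.Q_comm _ hu v hv
      have : u = v * u * v⁻¹ := by
        calc u = v⁻¹ * ((v * u * v⁻¹) * v) := by group
          _ = v⁻¹ * (v * (v * u * v⁻¹)) := by rw [e]
          _ = _ := by group
      rwa [this]
  have : x ∈ (Q1 ⊔ Q2 : Subgroup G) := B.Q_prod.ge hx
  rw [← SetLike.mem_coe, coe_mul_of_right_le_normalizer_left Q1 Q2 hn] at this
  obtain ⟨u, hu, v, hv, e⟩ := this
  exact ⟨u, hu, v, hv, e.symm⟩

/-- The complement `L1` is regular on the classes of `Q1` outside `Z`. -/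
theorem free [Finite G] {a l : G} (ha : a ∈ Q1) (haZ : a ∉ Z) (hl : l ∈ L1)
    (h : a⁻¹ * (l * a * l⁻¹) ∈ Z) : l = 1 := by
  classical
  have hL : Nat.card L1 = 8 := by
    obtain ⟨e⟩ := B.L1_quat
    rw [Nat.card_congr e.toEquiv, Nat.card_eq_fintype_card, QuaternionGroup.card]
  have hnot : ∀ k : ↥L1, (k : G) * a * (k : G)⁻¹ ∉ Z := fun k hk => haZ (by
    have := B.conj_Z (inv_mem (B.L1_le k.2)) hk
    rwa [← this, show (k : G)⁻¹ * ((k : G) * a * (k : G)⁻¹) * (k : G)⁻¹⁻¹ = a by group] at hk)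
  let f : ↥L1 × ↥Z → {x : ↥Q1 // (x : G) ∉ Z} := fun p =>
    ⟨⟨(p.1 : G) * a * (p.1 : G)⁻¹ * p.2, mul_mem ((mem_normalizer_iff.1 (B.L1_norm p.1.2) a).1 ha)
      (B.Z1 p.2.2)⟩, fun hk => hnot p.1 ((mul_mem_cancel_right p.2.2).1 hk)⟩
  have hsur : Function.Surjective f := by
    rintro ⟨⟨x, hx⟩, hxZ⟩
    obtain ⟨k, hk, w, hw, e⟩ := B.trans1 a ha haZ x hx hxZ
    exact ⟨⟨⟨k, hk⟩, ⟨w, hw⟩⟩, Subtype.ext (Subtype.ext e)⟩
  have h24 : Nat.card {x : ↥Q1 // (x : G) ∉ Z} = 24 := by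
    haveI := Fintype.ofFinite ↥Q1
    rw [Nat.card_eq_fintype_card, Fintype.card_subtype_compl, ← Nat.card_eq_fintype_card,
      ← Nat.card_eq_fintype_card]
    have : Nat.card {x : ↥Q1 // (x : G) ∈ Z} = 3 :=
      (Nat.card_congr (subgroupOfEquivOfLe B.Z1).toEquiv).trans B.Z_card
    rw [this, B.card1]
  have hinj := ((Nat.bijective_iff_surjective_and_card f).2 ⟨hsur, by
    rw [h24, Nat.card_prod, hL, B.Z_card]⟩).1
  have := @hinj (⟨l, hl⟩, ⟨(a⁻¹ * (l * a * l⁻¹))⁻¹, inv_mem h⟩) (1, 1)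
    (Subtype.ext (Subtype.ext (show l * a * l⁻¹ * (a⁻¹ * (l * a * l⁻¹))⁻¹ = (1 : G) * a * (1 : G)⁻¹ * 1 by
      group)))
  exact congrArg (fun p : ↥L1 × ↥Z => (p.1 : G)) this

theorem L_norm_Q : L1 ⊔ L2 ≤ normalizer (Q : Set G) :=
  sup_le (B.L1_le.trans B.Q_norm) (B.L2_le.trans B.Q_norm)

theorem QL_split {x : G} (hx : x ∈ Q ⊔ (L1 ⊔ L2)) : ∃ q ∈ Q, ∃ l ∈ L1, ∃ m ∈ L2, x = q * (l * m) := by
  rw [← SetLike.mem_coe, coe_mul_of_right_le_normalizer_left Q (L1 ⊔ L2) B.L_norm_Q] at hx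
  obtain ⟨q, hq, w, hw, e⟩ := hx
  have hn : L2 ≤ normalizer (L1 : Set G) := fun v hv => mem_normalizer_iff.2 fun u => by
    constructor
    · intro hu
      rw [← B.L_comm u hu v hv, mul_inv_cancel_right]
      exact hu
    · intro hu
      have h1 := B.L_comm _ hu v hv
      have : u = v * u * v⁻¹ := by
        calc u = v⁻¹ * ((v * u * v⁻¹) * v) := by group
          _ = v⁻¹ * (v * (v * u * v⁻¹)) := by rw [h1]
          _ = _ := by group
      rwa [this]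
  rw [SetLike.mem_coe, ← SetLike.mem_coe, coe_mul_of_right_le_normalizer_left L1 L2 hn] at hw
  obtain ⟨l, hl, m, hm, e'⟩ := hw
  exact ⟨q, hq, l, hl, m, hm, by rw [← e, ← e']⟩

theorem pow_four {L : Subgroup G} (h : Nonempty (↥L ≃* QuaternionGroup 2)) {m t : G} (hm : m ∈ L)
    (ht : t ∈ L) (ht2 : orderOf t = 2) (h2 : m * m = 1) : m = 1 ∨ m = t := by
  obtain ⟨e⟩ := h
  have key : ∀ u v : QuaternionGroup 2, u * u = 1 → v * v = 1 → v ≠ 1 → u = 1 ∨ u = v := by decide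
  have ht' : t * t = 1 := by rw [← pow_two, ← ht2, pow_orderOf_eq_one]
  have hne : (⟨t, ht⟩ : ↥L) ≠ 1 := fun h => by
    have h' : t = 1 := congrArg Subtype.val h
    rw [h', orderOf_one] at ht2
    omega
  rcases key (e ⟨m, hm⟩) (e ⟨t, ht⟩) (by rw [← map_mul]; exact e.map_eq_one_iff.2 (Subtype.ext h2))
      (by rw [← map_mul]; exact e.map_eq_one_iff.2 (Subtype.ext ht')) (fun h => hne (e.map_eq_one_iff.1 h))
    with h | h
  · exact Or.inl (congrArg Subtype.val (e.map_eq_one_iff.1 h))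
  · exact Or.inr (congrArg Subtype.val (e.injective h))

end Base

namespace Local

variable (D : Local Z Q Q1 Q2 L1 L2 E t1 t2 z y a b)
include D

theorem conj_mul_shift {c x : G} (hx : x ∈ Q) (u : G) : c * (x * u) * c⁻¹ = (c * x * c⁻¹) * (c * u * c⁻¹) := by
  group

theorem two_inv {x : G} (hx : x ∈ Q) (h : x * x ∈ Z) : x ∈ Z := by
  have h3 := D.base.cube x hx
  have : x = (x * x) * (x * x) := by
    calc x = x ^ 3 * x := by rw [h3, one_mul]
      _ = _ := by simp [pow_succ, mul_assoc]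
  rw [this]
  exact mul_mem h h

theorem mem_Q1_iff {x : G} (hx : x ∈ Q) : x ∈ Q1 ↔ x⁻¹ * (t2 * x * t2⁻¹) ∈ Z := by
  constructor
  · intro h
    have e : t2 * x = x * t2 := (mem_centralizer_iff.1 (D.base.L2_cent D.base.t2_mem) x h).symm
    rw [e, mul_inv_cancel_right, inv_mul_cancel]
    exact one_mem _
  · intro h
    obtain ⟨u, hu, v, hv, rfl⟩ := D.base.mem_Q_split hx
    have e : t2 * u = u * t2 := (mem_centralizer_iff.1 (D.base.L2_cent D.base.t2_mem) u hu).symm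
    have e1 : (u * v)⁻¹ * (t2 * (u * v) * t2⁻¹) = v⁻¹ * (t2 * v * t2⁻¹) := by
      rw [← mul_assoc t2 u v, e]; group
    rw [e1] at h
    have hi := D.base.t2_inv v hv
    have hv' : v⁻¹ * v⁻¹ ∈ Z := by
      have hi' : v * (t2 * v * t2⁻¹ * v) * v⁻¹ ∈ Z := by
        rw [D.base.conj_Z (D.base.Q_le (D.base.le2 hv)) hi]; exact hi
      have := mul_mem h (inv_mem hi')
      rwa [show v⁻¹ * v⁻¹ = v⁻¹ * (t2 * v * t2⁻¹) * (v * (t2 * v * t2⁻¹ * v) * v⁻¹)⁻¹ by group]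
    have hvZ := D.two_inv (inv_mem (D.base.le2 hv)) hv'
    exact mul_mem hu (D.base.Z1 (inv_mem_iff.1 hvZ))

theorem mem_Q2_iff {x : G} (hx : x ∈ Q) : x ∈ Q2 ↔ t2 * x * t2⁻¹ * x ∈ Z := by
  constructor
  · exact D.base.t2_inv x
  · intro h
    obtain ⟨u, hu, v, hv, rfl⟩ := D.base.mem_Q_split hx
    have e : t2 * u = u * t2 := (mem_centralizer_iff.1 (D.base.L2_cent D.base.t2_mem) u hu).symm
    have hv2 : t2 * v * t2⁻¹ ∈ Q2 := (mem_normalizer_iff.1 (D.base.L2_norm D.base.t2_mem) v).1 hv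
    have huv : u * (t2 * v * t2⁻¹) = t2 * v * t2⁻¹ * u := D.base.Q_comm u hu _ hv2
    have e1 : t2 * (u * v) * t2⁻¹ * (u * v) = u * u * (t2 * v * t2⁻¹ * v) := by
      rw [← mul_assoc t2 u v, e]
      calc u * t2 * v * t2⁻¹ * (u * v) = u * ((t2 * v * t2⁻¹) * u) * v := by group
        _ = u * (u * (t2 * v * t2⁻¹)) * v := by rw [huv]
        _ = _ := by group
    rw [e1] at h
    exact mul_mem (D.base.Z2 (D.two_inv (D.base.le1 hu)
      ((mul_mem_cancel_right (D.base.t2_inv v hv)).1 h))) hv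

theorem inv_shift {c x : G} (hc : c ∈ centralizer (Z : Set G)) (hx : x ∈ Q) (h : x⁻¹ * (c * x * c⁻¹) ∈ Z) :
    x⁻¹ * (c⁻¹ * x * c) ∈ Z := by
  have h2 : c⁻¹ * (x⁻¹ * (c * x * c⁻¹))⁻¹ * c⁻¹⁻¹ ∈ Z := by
    rw [D.base.conj_Z (inv_mem hc) (inv_mem h)]; exact inv_mem h
  have e : x⁻¹ * (c⁻¹ * x * c) = c⁻¹ * (x⁻¹ * (c * x * c⁻¹))⁻¹ * c⁻¹⁻¹ := by group
  rwa [e]

variable [Finite G]

/-- An element of `C(Z)` fixing `a` modulo `Z` respects the factors. -/
theorem factors_of_fix {c : G} (hc : c ∈ centralizer (Z : Set G)) (hca : a⁻¹ * (c * a * c⁻¹) ∈ Z) :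
    (∀ x ∈ Q1, c * x * c⁻¹ ∈ Q1) ∧ ∀ x ∈ Q2, c * x * c⁻¹ ∈ Q2 := by
  classical
  have hQL : c * t2 * c⁻¹ ∈ Q ⊔ (L1 ⊔ L2) :=
    (mem_normalizer_iff.1 (D.base.norm_L hc) t2).1 (mem_sup_right (mem_sup_right D.base.t2_mem))
  obtain ⟨q, hq, l, hl, m, hm, e⟩ := D.base.QL_split hQL
  set u := c * t2 * c⁻¹ with hu
  have hlC := D.base.L1_le hl
  have hmC := D.base.L2_le hm
  have hua : a⁻¹ * (u * a * u⁻¹) ∈ Z := by
    have hci := D.inv_shift hc D.a_Q hca
    set w := a⁻¹ * (c⁻¹ * a * c) with hw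
    have hwa : c⁻¹ * a * c = a * w := by rw [hw]; group
    have : u * a * u⁻¹ = c * a * c⁻¹ * w := by
      calc u * a * u⁻¹ = c * (t2 * (c⁻¹ * a * c) * t2⁻¹) * c⁻¹ := by rw [hu]; group
        _ = c * ((t2 * a * t2⁻¹) * (t2 * w * t2⁻¹)) * c⁻¹ := by rw [hwa]; group
        _ = (c * a * c⁻¹) * (c * w * c⁻¹) := by
            rw [D.base.conj_Z D.t2_cent hci, D.t2_a, mul_inv_cancel_right]; group
        _ = _ := by rw [D.base.conj_Z hc hci]
    rw [this, ← mul_assoc]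
    exact mul_mem hca hci
  -- the part in `L1` vanishes
  have hl1 : l = 1 := by
    refine D.base.free D.a_mem D.a_not hl ?_
    have hma : m * a = a * m := (mem_centralizer_iff.1 (D.base.L2_cent hm) a D.a_mem).symm
    have hla : l * a * l⁻¹ ∈ Q := D.base.conj_memQ hlC D.a_Q
    have e1 : u * a * u⁻¹ = ⁅q, l * a * l⁻¹⁆ * (l * a * l⁻¹) := by
      calc u * a * u⁻¹ = q * l * (m * a) * m⁻¹ * l⁻¹ * q⁻¹ := by rw [e]; group
        _ = _ := by rw [hma, commutatorElement_def]; group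
    have hb := D.base.br_mem hq hla
    rw [e1, ← (D.base.Z_comm hla hb).eq, ← mul_assoc] at hua
    exact (mul_mem_cancel_right hb).1 hua
  subst hl1
  rw [one_mul] at e
  have hu2 : u * u = 1 := by
    calc u * u = c * (t2 * t2) * c⁻¹ := by rw [hu]; group
      _ = 1 := by rw [D.t2_sq]; group
  have hm2 : m * m = 1 := by
    have hmQ : m * m ∈ Q := by
      have h1 : q * (m * q * m⁻¹) * (m * m) = 1 := by
        calc q * (m * q * m⁻¹) * (m * m) = (q * m) * (q * m) := by group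
          _ = 1 := by rw [← e, hu2]
      rw [eq_inv_of_mul_eq_one_right h1]
      exact inv_mem (mul_mem hq (D.base.conj_memQ hmC hq))
    -- a 2-element of `Q`
    have h3 : (m * m) ^ 3 = 1 := D.base.cube _ hmQ
    have h8 : m ^ 8 = 1 := by
      obtain ⟨eq⟩ := D.base.L2_quat
      have : (⟨m, hm⟩ : ↥L2) ^ 8 = 1 := eq.injective (by
        rw [map_pow, map_one]
        exact (show ∀ v : QuaternionGroup 2, v ^ 8 = 1 by decide) _)
      exact congrArg Subtype.val this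
    calc m * m = (m * m) ^ 3 * (m * m) := by rw [h3, one_mul]
      _ = m ^ 8 := by simp [pow_succ, mul_assoc]
      _ = 1 := h8
  have hmt : m = t2 := by
    rcases D.base.pow_four D.base.L2_quat hm D.base.t2_mem D.base.t2_two hm2 with rfl | rfl
    · exfalso
      rw [mul_one] at e
      have h3 : u ^ 3 = 1 := e ▸ D.base.cube q hq
      have h1 : u = 1 := by
        calc u = u ^ 3 := by rw [pow_succ, pow_two, hu2, one_mul]
          _ = 1 := h3
      have ht : t2 = 1 := by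
        calc t2 = c⁻¹ * u * c := by rw [hu]; group
          _ = 1 := by rw [h1]; group
      have := D.base.t2_two
      rw [ht, orderOf_one] at this
      omega
    · rfl
  subst hmt
  -- the action of `u` modulo `Z`
  have key : ∀ x ∈ Q, ∃ w ∈ Z, m * (c * x * c⁻¹) * m⁻¹ = c * (m * x * m⁻¹) * c⁻¹ * w := by
    intro x hx
    have hmx : m * (c * x * c⁻¹) * m⁻¹ ∈ Q := D.base.conj_memQ hmC (D.base.conj_memQ hc hx)
    refine ⟨(c * (m * x * m⁻¹) * c⁻¹)⁻¹ * (m * (c * x * c⁻¹) * m⁻¹), ?_, by group⟩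
    have e2 : c * (m * x * m⁻¹) * c⁻¹ = ⁅q, m * (c * x * c⁻¹) * m⁻¹⁆ * (m * (c * x * c⁻¹) * m⁻¹) := by
      calc c * (m * x * m⁻¹) * c⁻¹ = u * (c * x * c⁻¹) * u⁻¹ := by rw [hu]; group
        _ = _ := by rw [e, commutatorElement_def]; group
    rw [e2, ← (D.base.Z_comm hmx (D.base.br_mem hq hmx)).eq, mul_inv_rev, mul_assoc, inv_mul_cancel, mul_one]
    exact inv_mem (D.base.br_mem hq hmx)
  constructor
  · intro x hx
    have hcx := D.base.conj_memQ hc (D.base.le1 hx)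
    obtain ⟨w, hw, ew⟩ := key x (D.base.le1 hx)
    refine (D.mem_Q1_iff hcx).2 ?_
    rw [ew, show m * x * m⁻¹ = x by rw [(mem_centralizer_iff.1 (D.base.L2_cent D.base.t2_mem) x hx).symm,
      mul_inv_cancel_right], inv_mul_cancel_left]
    exact hw
  · intro x hx
    have hcx := D.base.conj_memQ hc (D.base.le2 hx)
    obtain ⟨w, hw, ew⟩ := key x (D.base.le2 hx)
    refine (D.mem_Q2_iff hcx).2 ?_
    rw [ew, mul_assoc, ← (D.base.Z_comm hcx hw).eq, ← mul_assoc,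
      show c * (m * x * m⁻¹) * c⁻¹ * (c * x * c⁻¹) = c * (m * x * m⁻¹ * x) * c⁻¹ by group,
      D.base.conj_Z hc (D.base.t2_inv x hx)]
    exact mul_mem (D.base.t2_inv x hx) hw

end Local

end Cfsg.Agent.FFourLocal
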