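import Cfsg.Agent.Lib.FFourLocal.Cent.Basic

/-!
# `C(Z) ∩ C(a) = C_Q(a) L₂ ⟨y⟩` and `C(E) = E`
-/

set_option autoImplicit false
set_option linter.unusedSectionVars false
set_option linter.style.haveILetI false

namespace Cfsg.Agent.FFourLocal

open Subgroup
open scoped commutatorElement

universe u

variable {G : Type u} [Group G] {Z Q Q1 Q2 L1 L2 E : Subgroup G} {t1 t2 z y a b : G}

namespace Local

variable (D : Local Z Q Q1 Q2 L1 L2 E t1 t2 z y a b)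
include D

theorem fix_mod_of_comm {c x : G} (h : c * x = x * c) : x⁻¹ * (c * x * c⁻¹) ∈ Z := by
  rw [h, mul_inv_cancel_right, inv_mul_cancel]
  exact one_mem _

theorem shift_mul {c d x : G} (hc : c ∈ centralizer (Z : Set G)) (h1 : x⁻¹ * (c * x * c⁻¹) ∈ Z)
    (h2 : x⁻¹ * (d * x * d⁻¹) ∈ Z) : x⁻¹ * (c * d * x * (c * d)⁻¹) ∈ Z := by
  have e : x⁻¹ * (c * d * x * (c * d)⁻¹) =
      (x⁻¹ * (c * x * c⁻¹)) * (c * (x⁻¹ * (d * x * d⁻¹)) * c⁻¹) := by group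
  rw [e, D.base.conj_Z hc h2]
  exact mul_mem h1 h2

/-- The elements of `C(Z)` fixing `a` and `b` modulo `Z`. -/
def stab : Subgroup G where
  carrier := {c | c ∈ centralizer (Z : Set G) ∧ a⁻¹ * (c * a * c⁻¹) ∈ Z ∧ b⁻¹ * (c * b * c⁻¹) ∈ Z}
  one_mem' := ⟨one_mem _, by simp, by simp⟩
  mul_mem' := by
    rintro c d ⟨hc, h1, h2⟩ ⟨hd, h3, h4⟩
    exact ⟨mul_mem hc hd, D.shift_mul hc h1 h3, D.shift_mul hc h2 h4⟩
  inv_mem' := by
    rintro c ⟨hc, h1, h2⟩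
    refine ⟨inv_mem hc, ?_, ?_⟩
    · simpa using D.inv_shift hc D.a_Q h1
    · simpa using D.inv_shift hc D.b_Q h2

theorem Q_le_stab : Q ≤ D.stab := fun q hq => by
  have key : ∀ x ∈ Q, x⁻¹ * (q * x * q⁻¹) ∈ Z := fun x hx => by
    rw [show x⁻¹ * (q * x * q⁻¹) = ⁅x⁻¹, q⁆ by rw [commutatorElement_def]; group]
    exact D.base.br_mem (inv_mem hx) hq
  exact ⟨D.base.Q_le hq, key a D.a_Q, key b D.b_Q⟩

theorem y_stab : y ∈ D.stab := ⟨D.y_cent, D.fix_mod_of_comm D.y_a, D.fix_mod_of_comm D.y_b⟩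

variable [Finite G]

/-- The cube of an element fixing the flag of `Q1` is trivial on `Q1 / Z`. -/
theorem cube_trivial {c : G} (hc : c ∈ centralizer (Z : Set G)) (hca : a⁻¹ * (c * a * c⁻¹) ∈ Z) {x : G}
    (hx : x ∈ Q1) : x⁻¹ * (c ^ 3 * x * (c ^ 3)⁻¹) ∈ Z := by
  obtain ⟨r, hr, har⟩ := D.base.exists_partner D.base.le1 (fun u hu v hv => D.base.Q_comm u hu v hv)
    D.base.Q_prod D.a_mem D.a_not D.z_mem
  have hcr := (D.factors_of_fix hc hca).1 r hr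
  obtain ⟨i, w, hw, e⟩ := D.base.flag D.base.le1 D.base.card1 D.base.Z1 D.a_mem hr D.z_mem D.z_ne har hc hcr hca
  set v := a⁻¹ * (c * a * c⁻¹) with hv
  have ea : c * a * c⁻¹ = a * v := by rw [hv]; group
  have hai : ∀ n : ℕ, c * a ^ n * c⁻¹ = a ^ n * v ^ n := fun n => by
    rw [← conj_pow, ea, (show Commute a v from D.base.Z_comm D.a_Q hca).mul_pow]
  -- iterate
  have hr3 : r⁻¹ * (c ^ 3 * r * (c ^ 3)⁻¹) ∈ Z := by
    have hZ : ∀ n : ℕ, ∀ u ∈ Z, ∀ q ∈ Q, Commute q (u ^ n) := fun n u hu q hq =>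
      D.base.Z_comm hq (pow_mem hu n)
    have e2 : c * (c * r * c⁻¹) * c⁻¹ = a ^ (i : ℕ) * v ^ (i : ℕ) * (a ^ (i : ℕ) * r * w) * w := by
      rw [e]
      calc c * (a ^ (i : ℕ) * r * w) * c⁻¹ =
            (c * a ^ (i : ℕ) * c⁻¹) * (c * r * c⁻¹) * (c * w * c⁻¹) := by group
        _ = _ := by rw [hai, e, D.base.conj_Z hc hw]
    have e3 : c ^ 3 * r * (c ^ 3)⁻¹ =
        a ^ (i : ℕ) * v ^ (i : ℕ) * (a ^ (i : ℕ) * v ^ (i : ℕ)) * v ^ (i : ℕ) *
          (a ^ (i : ℕ) * r * w) * w * w := by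
      calc c ^ 3 * r * (c ^ 3)⁻¹ = c * (c * (c * r * c⁻¹) * c⁻¹) * c⁻¹ := by
            simp [pow_succ, mul_assoc]
        _ = c * (a ^ (i : ℕ) * v ^ (i : ℕ) * (a ^ (i : ℕ) * r * w) * w) * c⁻¹ := by rw [e2]
        _ = (c * a ^ (i : ℕ) * c⁻¹) * (c * v ^ (i : ℕ) * c⁻¹) * (c * a ^ (i : ℕ) * c⁻¹) *
              (c * r * c⁻¹) * (c * w * c⁻¹) * (c * w * c⁻¹) := by group
        _ = a ^ (i : ℕ) * v ^ (i : ℕ) * v ^ (i : ℕ) * (a ^ (i : ℕ) * v ^ (i : ℕ)) *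
              (a ^ (i : ℕ) * r * w) * w * w := by
            rw [hai, e, D.base.conj_Z hc hw, D.base.conj_Z hc (pow_mem hca _)]
        _ = _ := by
            have h1 : Commute (a ^ (i : ℕ) * v ^ (i : ℕ)) (v ^ (i : ℕ)) :=
              ((hZ _ _ hca _ (pow_mem D.a_Q _))).mul_left (Commute.refl _)
            rw [mul_assoc (a ^ (i : ℕ) * v ^ (i : ℕ)) (v ^ (i : ℕ)), ← h1.eq]
            simp only [mul_assoc]
    have hv3 : (v ^ (i : ℕ)) ^ 3 = 1 := D.base.Z_cube (pow_mem hca _)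
    have ha3 : (a ^ (i : ℕ)) ^ 3 = 1 := D.base.cube _ (pow_mem D.a_Q _)
    have hcomm : Commute (a ^ (i : ℕ)) (v ^ (i : ℕ)) := hZ _ _ hca _ (pow_mem D.a_Q _)
    have e4 : a ^ (i : ℕ) * v ^ (i : ℕ) * (a ^ (i : ℕ) * v ^ (i : ℕ)) * v ^ (i : ℕ) *
        (a ^ (i : ℕ) * r * w) * w * w = (a ^ (i : ℕ)) ^ 3 * (v ^ (i : ℕ)) ^ 3 * r * (w * w * w) := by
      set A := a ^ (i : ℕ) with hA
      set V := v ^ (i : ℕ) with hV
      calc A * V * (A * V) * V * (A * r * w) * w * w = A * (V * A) * (V * V) * A * r * (w * w * w) := by group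
        _ = A * A * (V * V * V * A) * r * (w * w * w) := by rw [← hcomm.eq]; group
        _ = A * A * (A * (V * V * V)) * r * (w * w * w) := by
            rw [← ((hcomm.mul_right hcomm).mul_right hcomm).eq]
        _ = _ := by simp [pow_succ, mul_assoc]
    rw [e3, e4, ha3, hv3, one_mul, one_mul, inv_mul_cancel_left]
    exact mul_mem (mul_mem hw hw) hw
  have ha3' : a⁻¹ * (c ^ 3 * a * (c ^ 3)⁻¹) ∈ Z := by
    rw [show c ^ 3 = c * c * c by simp [pow_succ, mul_assoc]]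
    exact D.shift_mul (mul_mem hc hc) (D.shift_mul hc hca hca) hca
  obtain ⟨i', j', k', rfl⟩ :=
    (D.base.factor_coords D.base.le1 D.base.card1 D.base.Z1 D.a_mem hr D.z_mem D.z_ne har).1 x hx
  have hc3 : c ^ 3 ∈ centralizer (Z : Set G) := pow_mem hc 3
  set g := c ^ 3 with hg
  have key : ∀ u : G, u ∈ Q → u⁻¹ * (g * u * g⁻¹) ∈ Z → ∀ v : G, v ∈ Q → v⁻¹ * (g * v * g⁻¹) ∈ Z →
      (u * v)⁻¹ * (g * (u * v) * g⁻¹) ∈ Z := fun u _ h1 v hv' h2 => by
    have e : (u * v)⁻¹ * (g * (u * v) * g⁻¹) =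
        v⁻¹ * (u⁻¹ * (g * u * g⁻¹)) * v * (v⁻¹ * (g * v * g⁻¹)) := by group
    rw [e, mul_assoc v⁻¹, ← (D.base.Z_comm hv' h1).eq, inv_mul_cancel_left]
    exact mul_mem h1 h2
  have hpow : ∀ u : G, u ∈ Q → u⁻¹ * (g * u * g⁻¹) ∈ Z → ∀ n : ℕ, (u ^ n)⁻¹ * (g * u ^ n * g⁻¹) ∈ Z :=
    fun u hu h1 n => by
      induction n with
      | zero => simp
      | succ n ih => rw [pow_succ]; exact key _ (pow_mem hu n) ih u hu h1
  have hrQ := D.base.le1 hr
  exact key _ (mul_mem (pow_mem D.a_Q _) (pow_mem hrQ _)) (key _ (pow_mem D.a_Q _) (hpow a D.a_Q ha3' _) _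
    (pow_mem hrQ _) (hpow r hrQ hr3 _)) _ (pow_mem D.z_Q _)
    (D.fix_mod_of_comm (D.base.fix_Z hc3 (pow_mem D.z_mem _)))

theorem stab_pgroup : IsPGroup 3 ↥D.stab := by
  intro ⟨c, hc⟩
  obtain ⟨hcC, ha, hb⟩ := hc
  have h3 : c ^ 3 ∈ Q := by
    refine D.base.mem_Q_of_triv (pow_mem hcC 3) fun x hx => ?_
    obtain ⟨u, hu, v, hv, rfl⟩ := D.base.mem_Q_split hx
    have h1 := D.cube_trivial hcC ha hu
    have h2 := D.symm.cube_trivial hcC hb hv
    have e : (u * v)⁻¹ * (c ^ 3 * (u * v) * (c ^ 3)⁻¹) =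
        v⁻¹ * (u⁻¹ * (c ^ 3 * u * (c ^ 3)⁻¹)) * v * (v⁻¹ * (c ^ 3 * v * (c ^ 3)⁻¹)) := by group
    rw [e, mul_assoc v⁻¹, ← (D.base.Z_comm (D.base.le2 hv) h1).eq, inv_mul_cancel_left]
    exact mul_mem h1 h2
  refine ⟨2, Subtype.ext ?_⟩
  show c ^ 3 ^ 2 = 1
  rw [show (3 : ℕ) ^ 2 = 3 * 3 by norm_num, pow_mul]
  exact D.base.cube _ h3

theorem y_norm : zpowers y ≤ normalizer (Q : Set G) := zpowers_le.2 (D.base.Q_norm D.y_cent)

/-- The elements of `C(Z)` fixing `a` and `b` modulo `Z` form `Q ⟨y⟩`. -/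
theorem stab_eq : D.stab = Q ⊔ zpowers y := by
  haveI : Fact (Nat.Prime 3) := ⟨Nat.prime_three⟩
  have hle : Q ⊔ zpowers y ≤ D.stab := sup_le D.Q_le_stab (zpowers_le.2 D.y_stab)
  refine (Subgroup.eq_of_le_of_card_ge hle ?_).symm
  have hd := D.small D.stab D.stab_pgroup fun c hc => hc.1
  have h729 : 729 ≤ Nat.card ↥(Q ⊔ zpowers y) := by
    obtain ⟨k, hk⟩ := (IsPGroup.of_injective D.stab_pgroup (Subgroup.inclusion hle)
      (Subgroup.inclusion_injective hle)).exists_card_eq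
    have hQ : Nat.card Q < Nat.card ↥(Q ⊔ zpowers y) := by
      refine lt_of_le_of_ne (Subgroup.card_le_of_le le_sup_left) fun e => D.y_not ?_
      rw [Subgroup.eq_of_le_of_card_ge le_sup_left e.ge]
      exact mem_sup_right (mem_zpowers y)
    rw [D.base.Q_card, hk] at hQ
    rw [hk]
    rcases Nat.lt_or_ge k 6 with h | h
    · have : 3 ^ k ≤ 3 ^ 5 := Nat.pow_le_pow_right (by norm_num) (by omega)
      omega
    · exact le_trans (by norm_num) (Nat.pow_le_pow_right (by norm_num : 1 ≤ 3) h)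
  exact le_trans (Nat.le_of_dvd (by norm_num) hd) h729

theorem mem_QY {x : G} (hx : x ∈ Q ⊔ zpowers y) : ∃ q ∈ Q, ∃ i : Fin 3, x = q * y ^ (i : ℕ) := by
  rw [← SetLike.mem_coe, coe_mul_of_right_le_normalizer_left Q (zpowers y) D.y_norm] at hx
  obtain ⟨q, hq, w, hw, e⟩ := hx
  obtain ⟨n, rfl⟩ := (mem_powers_iff_mem_zpowers.2 hw : w ∈ Submonoid.powers y)
  refine ⟨q, hq, ⟨n % 3, Nat.mod_lt _ (by norm_num)⟩, ?_⟩
  rw [← e]
  exact congrArg (q * ·) (pow_mod_three D.y_cube n)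

/-- The centralizer of `a` in `C(Z)`. -/
theorem cent_a_split {c : G} (hc : c ∈ centralizer (Z : Set G)) (hca : c * a = a * c) :
    ∃ l ∈ L2, ∃ q ∈ Q, q * a = a * q ∧ ∃ i : Fin 3, c = l * q * y ^ (i : ℕ) := by
  have hfix := D.fix_mod_of_comm hca
  have hcb := (D.factors_of_fix hc hfix).2 b D.b_mem
  have hnot : c * b * c⁻¹ ∉ Z := fun h => D.b_not (by
    have := D.base.conj_Z (inv_mem hc) h
    rwa [← this, show c⁻¹ * (c * b * c⁻¹) * c⁻¹⁻¹ = b by group] at h)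
  obtain ⟨l, hl, w, hw, e⟩ := D.base.trans2 b D.b_mem D.b_not _ hcb hnot
  have hlC := D.base.L2_le hl
  have hla : l * a = a * l := (mem_centralizer_iff.1 (D.base.L2_cent hl) a D.a_mem).symm
  have hlia : l⁻¹ * a = a * l⁻¹ := ((show Commute l a from hla).inv_left).eq
  have hmem : l⁻¹ * c ∈ D.stab := by
    refine ⟨mul_mem (inv_mem hlC) hc, D.fix_mod_of_comm ?_, ?_⟩
    · rw [mul_assoc, hca, ← mul_assoc, hlia, mul_assoc]
    · have e' : l⁻¹ * c * b * (l⁻¹ * c)⁻¹ = b * w := by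
        calc l⁻¹ * c * b * (l⁻¹ * c)⁻¹ = l⁻¹ * (c * b * c⁻¹) * l := by group
          _ = l⁻¹ * (l * b * l⁻¹ * w) * l := by rw [e]
          _ = b * (l⁻¹ * w * l⁻¹⁻¹) := by group
          _ = b * w := by rw [D.base.conj_Z (inv_mem hlC) hw]
      rw [e', inv_mul_cancel_left]
      exact hw
  rw [D.stab_eq] at hmem
  obtain ⟨q, hq, i, e'⟩ := D.mem_QY hmem
  refine ⟨l, hl, q, hq, ?_, i, by rw [mul_assoc, ← e', mul_inv_cancel_left]⟩
  have h1 : l⁻¹ * c * a = a * (l⁻¹ * c) := by rw [mul_assoc, hca, ← mul_assoc, hlia, mul_assoc]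
  have h2 : Commute (y ^ (i : ℕ))⁻¹ a := ((show Commute y a from D.y_a).pow_left _).inv_left
  have h3 : q = l⁻¹ * c * (y ^ (i : ℕ))⁻¹ := by rw [e', mul_inv_cancel_right]
  rw [h3]
  exact ((show Commute (l⁻¹ * c) a from h1).mul_left h2).eq

/-- `E` is its own centralizer. -/
theorem cent_E {c : G} (hc : ∀ u ∈ E, c * u = u * c) : c ∈ E := by
  have hcZ : c ∈ centralizer (Z : Set G) := D.mem_centZ.2 (hc z D.z_E)
  have hmem : c ∈ D.stab := ⟨hcZ, D.fix_mod_of_comm (hc a D.a_E), D.fix_mod_of_comm (hc b D.b_E)⟩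
  rw [D.stab_eq] at hmem
  obtain ⟨q, hq, i, rfl⟩ := D.mem_QY hmem
  refine mul_mem ?_ (pow_mem D.y_E _)
  have hqc : ∀ u ∈ E, Commute q u := fun u hu => by
    have h1 : Commute (q * y ^ (i : ℕ)) u := hc u hu
    have h2 : Commute (y ^ (i : ℕ))⁻¹ u := ((show Commute y u from D.E_comm y D.y_E u hu).pow_left _).inv_left
    simpa using h1.mul_left h2
  obtain ⟨u, hu, v, hv, rfl⟩ := D.base.mem_Q_split hq
  -- the components lie in the flags
  obtain ⟨r, hr, har⟩ := D.base.exists_partner D.base.le1 (fun u hu v hv => D.base.Q_comm u hu v hv)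
    D.base.Q_prod D.a_mem D.a_not D.z_mem
  obtain ⟨s, hs, hbs⟩ := D.base.exists_partner D.base.le2 (fun u hu v hv => (D.base.Q_comm v hv u hu).symm)
    (by rw [sup_comm]; exact D.base.Q_prod) D.b_mem D.b_not D.z_mem
  have hflag : ∀ (R : Subgroup G) (a r : G) (_ : R ≤ Q) (_ : Nat.card R = 27) (_ : Z ≤ R) (_ : a ∈ R)
      (_ : r ∈ R) (_ : ⁅a, r⁆ = z) (_ : a ∈ E) (u : G), u ∈ R → Commute u a → u ∈ E := by
    intro R a r hR hcard hZR ha hr hbr haE u hu hua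
    obtain ⟨i, j, k, rfl⟩ := (D.base.factor_coords hR hcard hZR ha hr D.z_mem D.z_ne hbr).1 u hu
    have hrj : Commute (r ^ (j : ℕ)) a := by
      have h1 : Commute (a ^ (i : ℕ))⁻¹ a := ((Commute.refl a).pow_left _).inv_left
      have h2 : Commute (z ^ (k : ℕ))⁻¹ a :=
        ((D.base.Z_comm (hR ha) (pow_mem D.z_mem _)).symm).inv_left
      have := (h1.mul_left hua).mul_left h2
      simpa [mul_assoc] using this
    have hj : j = 0 := by
      by_contra hj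
      have h3 : ∀ n : Fin 3, n ≠ 0 → (r ^ (n : ℕ)) ^ (n : ℕ) = r := by
        intro n hn
        rw [← pow_mul, pow_mod_three (D.base.cube r (hR hr))]
        have : (n : ℕ) * (n : ℕ) % 3 = 1 := by
          revert hn
          revert n
          decide
        rw [this, pow_one]
      have := hrj.pow_left (j : ℕ)
      rw [h3 j hj] at this
      rw [D.base.br_eq_one.2 this.symm] at hbr
      exact D.z_ne hbr.symm
    subst hj
    rw [Fin.val_zero, pow_zero, mul_one]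
    exact mul_mem (pow_mem haE _) (pow_mem D.z_E _)
  have hua : Commute u a := by
    have := (hqc a D.a_E).mul_left ((show Commute a v from D.base.Q_comm a D.a_mem v hv).symm.inv_left)
    simpa using this
  have hvb : Commute v b := by
    have := ((show Commute u b from D.base.Q_comm u hu b D.b_mem).inv_left).mul_left (hqc b D.b_E)
    simpa using this
  exact mul_mem (hflag Q1 a r D.base.le1 D.base.card1 D.base.Z1 D.a_mem hr har D.a_E u hu hua)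
    (hflag Q2 b s D.base.le2 D.base.card2 D.base.Z2 D.b_mem hs hbs D.b_E v hv hvb)

end Local

end Cfsg.Agent.FFourLocal
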