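import Cfsg.Agent.Lib.FFourLocal.Cent.Quot
import Cfsg.Agent.Lib.FFourLocal.SixData
import Cfsg.Agent.Lib.SpThreeCent.BigHyp
import Cfsg.Agent.Lib.SpThreeCent.SixEnd.End

/-!
# Coordinates on `C_E(t)` for the side of `a`

`Coord a t z b E c`: `c` identifies `(ℤ/3)³` with the elements of `E` commuting with `t`, with
`z = (1,1,1)` and `b = (0,1,-1)`; all signed permutations are induced inside `C(a) ∩ C(t)`, and the
centralizer in `C(a)` of an element of weight two normalizes `E`.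
-/

set_option autoImplicit false
set_option linter.unusedSectionVars false
set_option linter.style.haveILetI false
set_option maxRecDepth 100000
set_option synthInstance.maxSize 10000

namespace Cfsg.Agent.FFourLocal

open Subgroup
open scoped commutatorElement
open Cfsg.Agent.SpThreeCent (CentData JData Loc)
open Cfsg.Agent.NineSym (Mn V3 Wt InL jM wM wact inL_all)

universe u

/-- Weight two. -/
def IsTwo (v : V3) : Prop := ∃ w : Wt, wact w (1, 1, 0) = v

/-- Coordinates on the part of `E` commuting with `t`. -/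
structure Coord {G : Type u} [Group G] (a t z b : G) (E : Subgroup G) (c : V3 → G) : Prop where
  add : ∀ u v, c (u + v) = c u * c v
  inj : Function.Injective c
  mem : ∀ v, c v ∈ E ∧ c v * t = t * c v
  surj : ∀ u ∈ E, u * t = t * u → ∃ v, c v = u
  map_z : c (1, 1, 1) = z
  map_b : c (0, 1, -1) = b
  mon : ∀ w : Wt, ∃ n, n * a = a * n ∧ n * t = t * n ∧ n ∈ normalizer (E : Set G) ∧
    ∀ v, n * c v * n⁻¹ = c (wact w v)
  norm : ∀ n, n * a = a * n → n ∈ normalizer (E : Set G) → ∃ w : Wt, ∀ v, n * c v * n⁻¹ = c (wact w v)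
  two : ∀ v, IsTwo v → ∀ g, g * a = a * g → g * c v = c v * g → g ∈ normalizer (E : Set G)

/-- The centralizer in `C(a)` of the first axis normalizes `E`. -/
def Axis {G : Type u} [Group G] (a : G) (E : Subgroup G) (c : V3 → G) : Prop :=
  ∀ g, g * a = a * g → g * c (1, 0, 0) = c (1, 0, 0) * g → g ∈ normalizer (E : Set G)

/-- The small case on the side of `a`, in the coordinates of `Lib/SpThreeCent`. -/
def SmallLoc {G : Type u} [Group G] (a z : G) (Q2 E : Subgroup G) : Prop :=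
  ∃ (h : z * a = a * z) (φ : Mn → Xq a),
    Loc (cls' a z h) (im a (zpowers a ⊔ Q2)) (im a E) true true φ ∧
      centralizer ({φ (jM (0, 0, 1))} : Set (Xq a)) ≤ normalizer (im a E : Set (Xq a))

theorem coord_facts :
    (∀ w : Wt, ∀ u v : V3, wact w (u + v) = wact w u + wact w v) ∧
    (∀ v : V3, v.1 + v.2.1 + v.2.2 = 0 → (∀ k : Fin 3, v ≠ ((k : ℕ) : ZMod 3) • ((1, 1, 1) : V3)) →
      ∃ w : Wt, wact w (1, 1, 1) = (1, 1, 1) ∧ wact w (0, 1, -1) = v) ∧
    (∃ w : Wt, wact w (0, 0, 1) = (1, 0, 0)) ∧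
    (∀ v : V3, ∀ w : Wt, IsTwo v → IsTwo (wact w v)) ∧
    ∀ u w : Wt, ∀ v : V3, wact (u * w) v = wact u (wact w v) := by
  refine ⟨by decide +kernel, ?_, by decide +kernel, ?_, by decide +kernel⟩
  · decide +kernel
  · rintro _ w ⟨u, rfl⟩
    exact ⟨w * u, (show ∀ u w : Wt, ∀ v : V3, wact (u * w) v = wact u (wact w v) by decide +kernel) w u _⟩

theorem span_facts : ∀ v u : V3, v.1 + v.2.1 + v.2.2 ≠ 0 →
    ∃ k : Fin 3, (u - ((k : ℕ) : ZMod 3) • v).1 + (u - ((k : ℕ) : ZMod 3) • v).2.1 +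
      (u - ((k : ℕ) : ZMod 3) • v).2.2 = 0 := by
  decide +kernel

theorem inv_wact : ∀ w : Wt, ∃ w' : Wt, ∀ v : V3, wact w (wact w' v) = v ∧ wact w' (wact w v) = v := by
  decide +kernel

namespace Local

variable {G : Type u} [Group G] [Finite G] {Z Q Q1 Q2 L1 L2 E : Subgroup G} {t1 t2 z y a b : G}
variable (D : Local Z Q Q1 Q2 L1 L2 E t1 t2 z y a b)
include D

theorem t1_E {u : G} (hu : u ∈ E) : ∃ w, w ∈ E ∧ w * t1 = t1 * w ∧ u⁻¹ * w ∈ zpowers a := by
  let S : Subgroup G :=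
    { carrier := {u | u ∈ E ∧ ∃ w, w ∈ E ∧ w * t1 = t1 * w ∧ u⁻¹ * w ∈ zpowers a}
      one_mem' := ⟨one_mem E, 1, one_mem E, by simp, by simp⟩
      mul_mem' := by
        rintro u v ⟨hu, w, hw, hwt, hwu⟩ ⟨hv, x, hx, hxt, hxv⟩
        refine ⟨mul_mem hu hv, w * x, mul_mem hw hx, ((show Commute w t1 from hwt).mul_left hxt).eq, ?_⟩
        have e : (u * v)⁻¹ * (w * x) = v⁻¹ * (u⁻¹ * w) * x := by group
        rw [e, D.E_comm v⁻¹ (inv_mem hv) (u⁻¹ * w) (mul_mem (inv_mem hu) hw), mul_assoc]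
        exact mul_mem hwu hxv
      inv_mem' := by
        rintro u ⟨hu, w, hw, hwt, hwu⟩
        refine ⟨inv_mem hu, w⁻¹, inv_mem hw, ((show Commute w t1 from hwt).inv_left).eq, ?_⟩
        have e : u⁻¹⁻¹ * w⁻¹ = (u⁻¹ * w)⁻¹ := by
          rw [mul_inv_rev, inv_inv, D.E_comm w⁻¹ (inv_mem hw) u hu]
        rw [e]
        exact inv_mem hwu }
  have h1 : ∀ x, x ∈ E → x * t1 = t1 * x → x ∈ S := fun x hx hxt => ⟨hx, x, hx, hxt, by simp⟩
  have hle : E ≤ S := by
    refine D.E_eq.le.trans (sup_le (sup_le (sup_le ?_ ?_) ?_) ?_) <;> rw [zpowers_le]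
    · exact h1 z D.z_E (D.base.fix_Z D.t1_cent D.z_mem).symm
    · exact ⟨D.a_E', 1, one_mem E, by simp, by simpa using inv_mem (mem_zpowers a)⟩
    · exact h1 b D.b_E' D.t1_b.symm
    · exact h1 y D.y_E' D.y_t1.symm
  exact (hle hu).2

theorem t1_E_unique {w : G} (hw : w ∈ zpowers a) (hwt : w * t1 = t1 * w) : w = 1 := by
  obtain ⟨k, rfl⟩ := mem_zpowers_iff.1 hw
  have e : t1 * a ^ k * t1⁻¹ = (a ^ k)⁻¹ := by
    rw [← conj_zpow, D.t1_a, inv_zpow]
  rw [← hwt, mul_inv_cancel_right] at e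
  have h3 : (a ^ k) ^ 3 = 1 := D.E_exp _ (zpow_mem D.a_E' k)
  calc a ^ k = (a ^ k) ^ 3 * ((a ^ k) * (a ^ k))⁻¹ := by group
    _ = 1 := by rw [h3, one_mul, mul_inv_rev, ← e]; nth_rewrite 2 [e]; exact mul_inv_cancel _

/-- An element of `C(a)` normalizing `E` moves the fixed part of `t1` into itself. -/
theorem shift_t1 {n : G} (hn : n * a = a * n) (hnE : n ∈ normalizer (E : Set G))
    (hself : ∀ g, g * a = a * g → (∀ u ∈ E, g * u * g⁻¹ * u⁻¹ ∈ zpowers a) → g ∈ E) :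
    (∀ u ∈ E, u * t1 = t1 * u → n * u * n⁻¹ * t1 = t1 * (n * u * n⁻¹)) ∧
      ∃ i : ℕ, t1 * n * t1⁻¹ = a ^ i * n := by
  have hti : t1⁻¹ = t1 := inv_eq_of_mul_eq_one_right D.t1_sq
  have htE : ∀ u ∈ E, t1 * u * t1⁻¹ ∈ E ∧ t1 * u * t1⁻¹ * u⁻¹ ∈ zpowers a := by
    intro u hu
    obtain ⟨w, hw, hwt, hwu⟩ := D.t1_E hu
    obtain ⟨k, hk⟩ := mem_zpowers_iff.1 hwu
    have e : t1 * u * t1⁻¹ = w * a ^ k := by
      have hu' : u = w * (a ^ k)⁻¹ := by rw [hk]; group
      rw [hu', show t1 * (w * (a ^ k)⁻¹) * t1⁻¹ = (t1 * w * t1⁻¹) * (t1 * a * t1⁻¹) ^ (-k) by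
        rw [conj_zpow, zpow_neg]; group, ← hwt, mul_inv_cancel_right, D.t1_a, inv_zpow, zpow_neg, inv_inv]
    refine ⟨e ▸ mul_mem hw (zpow_mem D.a_E' k), ?_⟩
    rw [e, show w * a ^ k * u⁻¹ = w * u⁻¹ * a ^ k by
      rw [mul_assoc, D.E_comm _ (zpow_mem D.a_E' k) _ (inv_mem hu), ← mul_assoc], D.E_comm _ hw _ (inv_mem hu)]
    exact mul_mem hwu (zpow_mem (mem_zpowers a) k)
  set c0 := t1 * n * t1⁻¹ * n⁻¹ with hc0
  have hna : Commute n a := hn
  have hc0a : c0 * a = a * c0 := by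
    have h1 : Commute (t1 * n * t1⁻¹) a := by
      have e : t1 * a⁻¹ * t1⁻¹ = a := by
        rw [show t1 * a⁻¹ * t1⁻¹ = (t1 * a * t1⁻¹)⁻¹ by group, D.t1_a, inv_inv]
      have h := (hna.inv_right).map (MulAut.conj t1).toMonoidHom
      simp only [MulEquiv.coe_toMonoidHom, MulAut.conj_apply, e] at h
      exact h
    exact (h1.mul_left hna.inv_left).eq
  have hci : ∀ g : G, g * a = a * g → ∀ k : ℤ, g * a ^ k * g⁻¹ = a ^ k := fun g hg k => by
    rw [((show Commute g a from hg).zpow_right k).eq, mul_inv_cancel_right]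
  have hEc : ∀ u ∈ E, n⁻¹ * u * n ∈ E := fun u hu => by
    simpa using (mem_normalizer_iff.1 (inv_mem hnE) u).1 hu
  have htmod : ∀ u ∈ E, ∃ k : ℤ, t1 * u * t1⁻¹ = a ^ k * u := fun u hu => by
    obtain ⟨k, hk⟩ := mem_zpowers_iff.1 (htE u hu).2
    exact ⟨k, by rw [hk]; group⟩
  have hc0E : c0 ∈ E := by
    refine hself c0 hc0a fun u hu => ?_
    obtain ⟨k1, hk1⟩ := htmod u hu
    have hu2 : t1⁻¹ * u * t1 = a ^ k1 * u := by rw [← hk1, hti]
    have h2 : n⁻¹ * (a ^ k1 * u) * n = a ^ k1 * (n⁻¹ * u * n) := by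
      calc n⁻¹ * (a ^ k1 * u) * n = (n⁻¹ * a ^ k1 * n⁻¹⁻¹) * (n⁻¹ * u * n) := by group
        _ = _ := by rw [hci n⁻¹ hna.inv_left.eq k1]
    obtain ⟨k2, hk2⟩ := htmod _ (hEc u hu)
    -- push through the four factors
    have e : c0 * u * c0⁻¹ = t1 * (n * (t1⁻¹ * (n⁻¹ * u * n) * t1) * n⁻¹) * t1⁻¹ := by rw [hc0]; group
    have hu3 : t1⁻¹ * (n⁻¹ * u * n) * t1 = a ^ k2 * (n⁻¹ * u * n) := by rw [← hk2, hti]
    rw [e, hu3, show n * (a ^ k2 * (n⁻¹ * u * n)) * n⁻¹ = (n * a ^ k2 * n⁻¹) * u by group, hci n hn,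
      show t1 * (a ^ k2 * u) * t1⁻¹ = (t1 * a * t1⁻¹) ^ k2 * (t1 * u * t1⁻¹) by rw [conj_zpow]; group, D.t1_a,
      hk1, mul_assoc, mul_assoc, mul_inv_cancel, mul_one, inv_zpow]
    exact mul_mem (inv_mem (zpow_mem (mem_zpowers a) k2)) (zpow_mem (mem_zpowers a) k1)
  constructor
  · intro u hu hut
    have hnu : n * u * n⁻¹ ∈ E := (mem_normalizer_iff.1 hnE u).1 hu
    have e : t1 * (n * u * n⁻¹) * t1⁻¹ = c0 * (n * (t1 * u * t1⁻¹) * n⁻¹) * c0⁻¹ := by rw [hc0]; group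
    rw [← hut, mul_inv_cancel_right, D.E_comm _ hc0E _ hnu, mul_inv_cancel_right] at e
    exact (mul_inv_eq_iff_eq_mul.1 e).symm
  · obtain ⟨w, hw, hwt, hwc⟩ := D.t1_E hc0E
    obtain ⟨k, hk⟩ := mem_zpowers_iff.1 hwc
    have hinv : t1 * c0 * t1⁻¹ = c0⁻¹ := by
      calc t1 * c0 * t1⁻¹ = (t1 * t1) * n * t1⁻¹ * n⁻¹ * t1⁻¹ := by rw [hc0]; group
        _ = n * t1⁻¹ * n⁻¹ * t1⁻¹ := by rw [D.t1_sq, one_mul]
        _ = c0⁻¹ := by rw [hc0]; simp only [mul_inv_rev, inv_inv, hti, mul_assoc]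
    have hc : c0 = w * (a ^ k)⁻¹ := by rw [hk]; group
    have hw2 : w * w = 1 := by
      rw [hc, show t1 * (w * (a ^ k)⁻¹) * t1⁻¹ = (t1 * w * t1⁻¹) * (t1 * a * t1⁻¹) ^ (-k) by
        rw [conj_zpow, zpow_neg]; group, ← hwt, mul_inv_cancel_right, D.t1_a, inv_zpow, zpow_neg, inv_inv,
        mul_inv_rev, inv_inv, D.E_comm _ hw _ (zpow_mem D.a_E' k)] at hinv
      have := mul_left_cancel hinv
      calc w * w = w * w⁻¹ := by nth_rewrite 2 [this]; rfl
        _ = 1 := mul_inv_cancel w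
    have hw1 : w = 1 := by
      calc w = w ^ 3 * (w * w)⁻¹ := by group
        _ = 1 := by rw [D.E_exp w hw, hw2, inv_one, mul_one]
    rw [hw1, one_mul, ← zpow_neg] at hc
    have hm : c0 ∈ zpowers a := hc ▸ zpow_mem (mem_zpowers a) _
    obtain ⟨i, hi⟩ := (mem_powers_iff_mem_zpowers.2 hm : c0 ∈ Submonoid.powers a)
    exact ⟨i, by rw [show a ^ i = c0 from hi, hc0]; group⟩

theorem exists_loc : ∃ φ : Mn → Xq a,
    Loc (cls' a z D.z_centA) (im a (zpowers a ⊔ Q2)) (im a E) true true φ := by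
  obtain ⟨ci, cd, φ, L⟩ := SpThreeCent.exists_loc_of_centData D.centData D.jData D.sig_im
  obtain rfl := L.ci_true D.ci_real
  cases cd
  · exfalso
    have hn := SpThreeCent.normal_of_pair L
    obtain ⟨g, ga, gb, gy, -⟩ := D.swap
    set s := g * t2 * g⁻¹ with hs
    have hsa : s * a * s⁻¹ = a := by
      conv_lhs => rw [← gy]
      rw [hs, show g * t2 * g⁻¹ * (g * y * g⁻¹) * (g * t2 * g⁻¹)⁻¹ = g * (t2 * y * t2⁻¹) * g⁻¹ by group,
        D.y_t2, mul_inv_cancel_right, gy]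
    have hsy : s * y * s⁻¹ = y := by
      conv_lhs => rw [← ga]
      rw [hs, show g * t2 * g⁻¹ * (g * a * g⁻¹) * (g * t2 * g⁻¹)⁻¹ = g * (t2 * a * t2⁻¹) * g⁻¹ by group,
        D.t2_a, mul_inv_cancel_right, ga]
    have hsy' : s * (y⁻¹ * z) * s⁻¹ = (y⁻¹ * z)⁻¹ := by
      conv_lhs => rw [← gb]
      rw [hs, show g * t2 * g⁻¹ * (g * b * g⁻¹) * (g * t2 * g⁻¹)⁻¹ = g * (t2 * b * t2⁻¹) * g⁻¹ by group,
        D.t2_b, ← gb]
      group
    have hsz : s * z * s⁻¹ = y * (z⁻¹ * y) := by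
      rw [show s * z * s⁻¹ = (s * y * s⁻¹) * (s * (y⁻¹ * z) * s⁻¹) by group, hsy, hsy', mul_inv_rev, inv_inv]
    set S := cls' a s (mul_inv_eq_iff_eq_mul.1 hsa)
    have hmem : S * cls' a z D.z_centA * S⁻¹ ∈ zpowers (cls' a z D.z_centA) := by
      have : S ∈ normalizer ((zpowers (cls' a z D.z_centA) : Subgroup (Xq a)) : Set (Xq a)) := hn ▸ mem_top _
      exact (mem_normalizer_iff.1 this _).1 (mem_zpowers _)
    obtain ⟨k, hk⟩ := mem_zpowers_iff.1 hmem
    simp only [S, cls', ← map_inv, ← map_mul, ← map_zpow] at hk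
    have h' := mk_eq_iff.1 hk
    push_cast at h'
    rw [hsz] at h'
    have hq : y * (z⁻¹ * y) ∈ Q := by
      have := mul_mem (zpow_mem D.z_Q k) (zpowers_le.2 D.a_Q h')
      rwa [mul_inv_cancel_left] at this
    have hyy : y * y ∈ Q := by
      have e : y * (z⁻¹ * y) * z = y * y := by
        rw [show y * (z⁻¹ * y) * z = y * (z⁻¹ * (y * z)) by group, (show Commute y z from D.yz).eq,
          inv_mul_cancel_left]
      exact e ▸ mul_mem hq D.z_Q
    refine D.y_not ?_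
    have : y = (y * y) * (y * y) := by
      calc y = y ^ 3 * y := by rw [D.y_cube, one_mul]
        _ = _ := by simp [pow_succ, mul_assoc]
    rw [this]
    exact mul_mem hyy hyy
  · exact ⟨φ, L⟩

theorem norm_im {n : ↥(centralizer ({a} : Set G))} :
    QuotientGroup.mk' (cK a) n ∈ normalizer (im a E : Set (Xq a)) ↔ (n : G) ∈ normalizer (E : Set G) := by
  constructor
  · intro h
    refine Subgroup.mem_normalizer_fintype fun u hu => ?_
    have := (mem_normalizer_iff.1 h _).1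
      ⟨⟨u, D.E_le_centA hu⟩, mem_subgroupOf.2 hu, rfl⟩
    rw [← map_inv, ← map_mul, ← map_mul, mem_im D.a_E'] at this
    exact this
  · intro h
    refine Subgroup.mem_normalizer_fintype fun x hx => ?_
    obtain ⟨u, hu, rfl⟩ := hx
    rw [← map_inv, ← map_mul, ← map_mul]
    exact ⟨_, mem_subgroupOf.2 ((mem_normalizer_iff.1 h _).1 hu), rfl⟩

/-- The coordinates of the side of `a`. -/
theorem exists_coord : ∃ c : V3 → G, Coord a t1 z b E c ∧
    (∀ v, c v = y → v.1 + v.2.1 + v.2.2 ≠ 0) ∧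
    ((Axis a E c ∧ SmallLoc a z Q2 E) ∨ (¬ Axis a E c ∧ Big a)) := by
  classical
  obtain ⟨φ, L⟩ := D.exists_loc
  obtain ⟨hlin, hperm, ⟨w1, hw1⟩, htwo, hwmul⟩ := coord_facts
  set q := QuotientGroup.mk' (cK a) with hq
  -- the representative in the fixed part
  have hex : ∀ v : V3, ∃ u : G, u ∈ E ∧ u * t1 = t1 * u ∧
      ∃ h : u * a = a * u, cls' a u h = φ (jM v) := by
    intro v
    obtain ⟨x, hx, e⟩ := L.memj v
    obtain ⟨w, hw, hwt, hwu⟩ := D.t1_E (mem_subgroupOf.1 hx)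
    refine ⟨w, hw, hwt, D.E_comm w hw a D.a_E', ?_⟩
    rw [cls', ← e]
    exact mk_eq_iff.2 (by
      have := inv_mem hwu
      rwa [mul_inv_rev, inv_inv] at this)
  choose f hfE hft hfa hfφ using hex
  have huniq : ∀ u v : G, u ∈ E → v ∈ E → u * t1 = t1 * u → v * t1 = t1 * v → u⁻¹ * v ∈ zpowers a → u = v :=
    fun u v _ _ hut hvt h => inv_mul_eq_one.1
      (D.t1_E_unique h ((show Commute u t1 from hut).inv_left.mul_left hvt).eq)
  have hfadd : ∀ u v, f (u + v) = f u * f v := fun u v => by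
    refine huniq _ _ (hfE _) (mul_mem (hfE _) (hfE _)) (hft _)
      ((show Commute (f u) t1 from hft u).mul_left (hft v)).eq ?_
    refine (mk_eq_iff (u := ⟨f (u + v), mem_centralizer_singleton_iff.2 (hfa _)⟩)
      (v := ⟨f u, mem_centralizer_singleton_iff.2 (hfa _)⟩ * ⟨f v, mem_centralizer_singleton_iff.2 (hfa _)⟩)).1 ?_
    rw [map_mul]
    exact (hfφ _).trans ((L.jadd u v).trans (congrArg₂ (· * ·) (hfφ u).symm (hfφ v).symm))
  have hfinj : Function.Injective f := fun u v e => L.jinj (by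
    rw [← hfφ u, ← hfφ v]
    simp only [e])
  have hfsurj : ∀ u ∈ E, u * t1 = t1 * u → ∃ v, f v = u := by
    intro u hu hut
    obtain ⟨v, hv⟩ := (L.memJ (q ⟨u, D.E_le_centA hu⟩)).1 ⟨_, mem_subgroupOf.2 hu, rfl⟩
    refine ⟨v, huniq _ _ (hfE _) hu (hft _) hut ((mk_eq_iff
      (u := ⟨f v, mem_centralizer_singleton_iff.2 (hfa _)⟩) (v := ⟨u, D.E_le_centA hu⟩)).1 ?_)⟩
    exact (hfφ v).trans hv
  have hfz : f (1, 1, 1) = z := by
    refine huniq _ _ (hfE _) D.z_E (hft _) (D.base.fix_Z D.t1_cent D.z_mem).symm ((mk_eq_iff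
      (u := ⟨f _, mem_centralizer_singleton_iff.2 (hfa _)⟩)
      (v := ⟨z, mem_centralizer_singleton_iff.2 D.z_centA⟩)).1 ?_)
    exact (hfφ _).trans L.a_eq
  -- a lift moves the representatives as its class does
  have hself : ∀ g, g * a = a * g → (∀ u ∈ E, g * u * g⁻¹ * u⁻¹ ∈ zpowers a) → g ∈ E := by
    intro g hga h
    refine (mem_im (u := ⟨g, mem_centralizer_singleton_iff.2 hga⟩) D.a_E').1 (L.self _ ?_)
    rintro _ ⟨u, hu, rfl⟩
    rw [← map_mul, ← map_mul]
    refine mk_eq_iff.2 ?_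
    push_cast
    obtain ⟨k, hk⟩ := mem_zpowers_iff.1 (h _ (mem_subgroupOf.1 hu))
    have e : g * (u : G) = a ^ k * ((u : G) * g) := by rw [hk]; group
    have hc : Commute ((u : G) * g) (a ^ k) :=
      Commute.zpow_right ((show Commute (u : G) a from mem_centralizer_singleton_iff.1 u.2).mul_left hga) k
    rw [e, ← hc.eq, mul_inv_rev, mul_assoc, inv_mul_cancel, mul_one]
    exact inv_mem (zpow_mem (mem_zpowers a) k)
  have hmove : ∀ (n : ↥(centralizer ({a} : Set G))) (p : Mn), (n : G) ∈ normalizer (E : Set G) → φ p = q n →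
      ∀ v, (n : G) * f v * (n : G)⁻¹ = f (wact p.w v) := by
    intro n p hnE he v
    have hna : (n : G) * a = a * n := mem_centralizer_singleton_iff.1 n.2
    have h1 := (D.shift_t1 hna hnE hself).1 _ (hfE v) (hft v)
    refine huniq _ _ ((mem_normalizer_iff.1 hnE _).1 (hfE v)) (hfE _) h1 (hft _) ((mk_eq_iff
      (u := n * ⟨f v, mem_centralizer_singleton_iff.2 (hfa v)⟩ * n⁻¹)
      (v := ⟨f (wact p.w v), mem_centralizer_singleton_iff.2 (hfa _)⟩)).1 ?_)
    rw [map_mul, map_mul, map_inv]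
    refine Eq.trans ?_ (hfφ _).symm
    rw [← L.act' (inL_all p), he, ← hfφ v]
    rfl
  have hnorm : ∀ n, n * a = a * n → n ∈ normalizer (E : Set G) →
      ∃ w : Wt, ∀ v, n * f v * n⁻¹ = f (wact w v) := by
    intro n hna hnE
    obtain ⟨p, -, hp⟩ := L.norm_eq (q ⟨n, mem_centralizer_singleton_iff.2 hna⟩) (D.norm_im.2 hnE)
    exact ⟨p.w, hmove ⟨n, mem_centralizer_singleton_iff.2 hna⟩ p hnE hp⟩
  have hmon : ∀ w : Wt, ∃ n, n * a = a * n ∧ n * t1 = t1 * n ∧ n ∈ normalizer (E : Set G) ∧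
      ∀ v, n * f v * n⁻¹ = f (wact w v) := by
    intro w
    obtain ⟨n, hn⟩ := QuotientGroup.mk'_surjective (cK a) (φ (wM w))
    have hnE : (n : G) ∈ normalizer (E : Set G) := D.norm_im.1 (hn ▸ L.mem_norm _ (inL_all _))
    have hna : (n : G) * a = a * n := mem_centralizer_singleton_iff.1 n.2
    obtain ⟨i, hi⟩ := (D.shift_t1 hna hnE hself).2
    refine ⟨(n : G) * a ^ (2 * i), ((show Commute (n : G) a from hna).mul_left
      ((Commute.refl a).pow_left _)).eq, ?_, mul_mem hnE (le_normalizer (pow_mem D.a_E' _)), fun v => ?_⟩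
    · refine (mul_inv_eq_iff_eq_mul.1 ?_).symm
      have hc : Commute (n : G) (a ^ i) := (show Commute (n : G) a from hna).pow_right i
      calc t1 * ((n : G) * a ^ (2 * i)) * t1⁻¹ = (t1 * n * t1⁻¹) * (t1 * a * t1⁻¹) ^ (2 * i) := by
            rw [conj_pow]; group
        _ = a ^ i * n * (a ^ (2 * i))⁻¹ := by rw [hi, D.t1_a, inv_pow]
        _ = n * (a ^ i * (a ^ (2 * i))⁻¹) := by rw [← hc.eq, mul_assoc]
        _ = n * a ^ (2 * i) := by
          congr 1
          rw [mul_inv_eq_iff_eq_mul, ← pow_add]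
          calc a ^ i = a ^ i * (a ^ 3) ^ i := by rw [D.a3, one_pow, mul_one]
            _ = _ := by rw [← pow_mul, ← pow_add]; ring_nf
    · rw [show (n : G) * a ^ (2 * i) * f v * ((n : G) * a ^ (2 * i))⁻¹ =
        (n : G) * (a ^ (2 * i) * f v * (a ^ (2 * i))⁻¹) * (n : G)⁻¹ by group,
        D.E_comm _ (pow_mem D.a_E' _) _ (hfE v), mul_inv_cancel_right]
      exact hmove n (wM w) hnE hn.symm v
  -- the centralizers
  have hcent : ∀ v g, g * a = a * g → g * f v = f v * g →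
      ∃ h : g * a = a * g, cls' a g h * φ (jM v) = φ (jM v) * cls' a g h := by
    intro v g hga hgv
    refine ⟨hga, ?_⟩
    rw [← hfφ v, cls', cls', ← map_mul, ← map_mul]
    congr 1
    exact Subtype.ext hgv
  have htwo' : ∀ v, IsTwo v → ∀ g, g * a = a * g → g * f v = f v * g → g ∈ normalizer (E : Set G) := by
    rintro v ⟨w, hw⟩ g hga hgv
    obtain ⟨h, e⟩ := hcent v g hga hgv
    exact D.norm_im.1 (L.cent_two w hw e)
  -- moving the axis
  have haxis : ∀ (w : Wt) (v : V3),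
      (∀ g, g * a = a * g → g * f (wact w v) = f (wact w v) * g → g ∈ normalizer (E : Set G)) →
      ∀ g, g * a = a * g → g * f v = f v * g → g ∈ normalizer (E : Set G) := by
    intro w v h g hga hgv
    obtain ⟨n, hna, -, hnE, hn⟩ := hmon w
    have hga' : n * g * n⁻¹ * a = a * (n * g * n⁻¹) :=
      (((show Commute n a from hna).mul_left hga).mul_left (show Commute n a from hna).inv_left).eq
    have hg' : n * g * n⁻¹ * f (wact w v) = f (wact w v) * (n * g * n⁻¹) := by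
      rw [← hn v, show n * g * n⁻¹ * (n * f v * n⁻¹) = n * (g * f v) * n⁻¹ by group, hgv]
      group
    have h3 := mul_mem (mul_mem (inv_mem hnE) (h _ hga' hg')) hnE
    rwa [show n⁻¹ * (n * g * n⁻¹) * n = g by group] at h3
  -- the dichotomy
  have hdi : ((∀ g, g * a = a * g → g * f (0, 0, 1) = f (0, 0, 1) * g → g ∈ normalizer (E : Set G)) ∧
        SmallLoc a z Q2 E) ∨
      (¬ (∀ g, g * a = a * g → g * f (0, 0, 1) = f (0, 0, 1) * g → g ∈ normalizer (E : Set G)) ∧ Big a) := by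
    rcases L.mon_dichotomy with hs | ⟨K, S6⟩
    · refine Or.inl ⟨fun g hga hg => ?_, D.z_centA, φ, L, hs⟩
      obtain ⟨h, e⟩ := hcent _ _ hga hg
      exact D.norm_im.1 (hs (mem_centralizer_singleton_iff.2 e))
    · refine Or.inr ⟨fun hax => ?_, ?_⟩
      · -- the transpositions of the symmetric group would normalise `E`
        obtain ⟨σ, hσ⟩ := L.exists_sixMap S6
        obtain ⟨u, hu⟩ := QuotientGroup.mk'_surjective (cK a) (σ (Equiv.swap 2 3))
        have hua : (u : G) * a = a * u := mem_centralizer_singleton_iff.1 u.2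
        have hu2 : (u : G) * u ∈ zpowers a := by
          have : QuotientGroup.mk' (cK a) (u * u) = 1 := by
            rw [map_mul, hu, ← map_mul, Equiv.swap_mul_self, map_one]
          simpa using mk_eq_one_iff.1 this
        set v := (u : G) * ((u : G) * u) with hv
        have hv2 : v * v = 1 := by
          obtain ⟨k, hk⟩ := mem_zpowers_iff.1 hu2
          have : v * v = ((u : G) * u) ^ 3 := by rw [hv]; simp [pow_succ, mul_assoc]
          rw [this, ← hk, ← zpow_natCast, ← zpow_mul, mul_comm, zpow_mul, zpow_natCast, D.a3, one_zpow]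
        have hva : v * a = a * v :=
          ((show Commute (u : G) a from hua).mul_left ((show Commute (u : G) a from hua).mul_left hua)).eq
        have hvq : QuotientGroup.mk' (cK a) ⟨v, mem_centralizer_singleton_iff.2 hva⟩ = σ (Equiv.swap 2 3) := by
          rw [← hu]
          refine mk_eq_iff.2 ?_
          show v⁻¹ * (u : G) ∈ zpowers a
          rw [show v⁻¹ * (u : G) = ((u : G) * u)⁻¹ by rw [hv]; group]
          exact inv_mem hu2
        -- `v` centralises the lift of the axis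
        set e := f (0, 0, 1) with he
        have hee : v * e * v⁻¹ * e⁻¹ ∈ zpowers a := by
          have h1 := hσ.c (Equiv.swap 2 3)
          rw [← hvq, ← hfφ] at h1
          have h2 := mk_eq_iff.1 ((map_mul (QuotientGroup.mk' (cK a)) _ _).trans (h1.trans (map_mul _ _ _).symm))
          push_cast at h2
          obtain ⟨k, hk⟩ := mem_zpowers_iff.1 h2
          refine mem_zpowers_iff.2 ⟨k, ?_⟩
          have hc : Commute (e * v) (a ^ k) := Commute.zpow_right
            ((show Commute e a from hfa _).mul_left hva) k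
          calc a ^ k = e * v * a ^ k * (e * v)⁻¹ := by rw [hc.eq, mul_inv_cancel_right]
            _ = _ := by rw [hk, he]; group
        obtain ⟨k, hk⟩ := mem_zpowers_iff.1 hee
        have hvk : v * a ^ k * v⁻¹ = a ^ k := by
          rw [((show Commute v a from hva).zpow_right k).eq, mul_inv_cancel_right]
        have hk2 : a ^ k * a ^ k = 1 := by
          calc a ^ k * a ^ k = (v * a ^ k * v⁻¹) * a ^ k := by rw [hvk]
            _ = v * (v * e * v⁻¹ * e⁻¹) * v⁻¹ * (v * e * v⁻¹ * e⁻¹) := by rw [hk]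
            _ = (v * v) * e * (v * v)⁻¹ * e⁻¹ := by group
            _ = 1 := by rw [hv2, one_mul, inv_one, mul_one, mul_inv_cancel]
        have hk1 : a ^ k = 1 := by
          calc a ^ k = (a ^ k) ^ 3 * (a ^ k * a ^ k)⁻¹ := by group
            _ = 1 := by rw [hk2, D.E_exp _ (zpow_mem D.a_E' k), inv_one, mul_one]
        rw [hk1, eq_comm] at hk
        have hve : v * e = e * v := by
          calc v * e = (v * e * v⁻¹ * e⁻¹) * e * v := by group
            _ = e * v := by rw [hk, one_mul]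
        have hn := (D.norm_im (n := ⟨v, mem_centralizer_singleton_iff.2 hva⟩)).2 (hax v hva hve)
        rw [hvq] at hn
        have hcb : σ NineSym.SymSix.cb ∈ im a E := by
          obtain ⟨h1, h2⟩ : NineSym.word6 (1, 0, 0, 0) = NineSym.SymSix.cb ∧
              NineSym.wordM (1, 0, 0, 0) = jM (1, 0, 0) := by decide +kernel
          rw [← h1, hσ.agree, h2]
          exact L.memj _
        have h5 := (mem_normalizer_iff.1 hn _).1 hcb
        rw [← map_inv, ← map_mul, ← map_mul] at h5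
        have h6 := L.J_comm hcb h5
        rw [← map_mul, ← map_mul] at h6
        exact (show NineSym.SymSix.cb * (Equiv.swap 2 3 * NineSym.SymSix.cb * (Equiv.swap 2 3)⁻¹) ≠
          Equiv.swap 2 3 * NineSym.SymSix.cb * (Equiv.swap 2 3)⁻¹ * NineSym.SymSix.cb by decide +kernel) (hσ.inj h6)
      · obtain ⟨Θ, H⟩ := L.exists_hyp S6
        let e := MulEquiv.ofBijective Θ ⟨H.inj, SpThreeCent.SixEnd.surjective H⟩
        refine ⟨e.symm.toMonoidHom.comp q, e.symm.surjective.comp (QuotientGroup.mk'_surjective _), fun x => ?_⟩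
        rw [MonoidHom.comp_apply, MulEquiv.coe_toMonoidHom, e.symm.map_eq_one_iff, hq]
        exact mk_eq_one_iff
  -- normalise `b`
  have hbR : ∀ v, f v ∈ zpowers a ⊔ Q2 ↔ v.1 + v.2.1 + v.2.2 = 0 := by
    have himf : ∀ v, φ (jM v) ∈ im a (zpowers a ⊔ Q2) ↔ f v ∈ zpowers a ⊔ Q2 := fun v => by
      rw [← hfφ v]
      exact mem_im (mem_sup_left (mem_zpowers a))
    intro v
    refine ⟨fun hv => ?_, fun hv => (himf v).1 (L.plane_R v hv)⟩
    by_contra hne
    refine SpThreeCent.not_le_R D.centData D.jData fun x hx => ?_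
    obtain ⟨u, rfl⟩ := (L.memJ x).1 hx
    obtain ⟨k, hk⟩ := span_facts v u hne
    have h1 := L.plane_R _ hk
    have h2 : φ (jM (((k : ℕ) : ZMod 3) • v)) ∈ im a (zpowers a ⊔ Q2) := by
      rw [show ((k : ℕ) : ZMod 3) • v = (k : ℕ) • v from Nat.cast_smul_eq_nsmul (ZMod 3) (k : ℕ) v]
      generalize (k : ℕ) = n
      induction n with
      | zero => rw [zero_smul, L.jzero]; exact one_mem _
      | succ n ih => rw [succ_nsmul, L.jadd]; exact mul_mem ih ((himf v).2 hv)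
    have := mul_mem h1 h2
    rwa [← L.jadd, sub_add_cancel] at this
  obtain ⟨vb, hvb⟩ := hfsurj b D.b_E' D.t1_b.symm
  obtain ⟨wb, hwz, hwb⟩ := hperm vb ((hbR vb).1 (hvb ▸ mem_sup_right D.b_mem)) fun k hk => D.b_not (by
    rw [← hvb, hk, show ((k : ℕ) : ZMod 3) • ((1, 1, 1) : V3) = (k : ℕ) • ((1, 1, 1) : V3) from
      Nat.cast_smul_eq_nsmul (ZMod 3) (k : ℕ) _]
    generalize (k : ℕ) = n
    induction n with
    | zero =>
      rw [zero_smul]
      have h := hfadd 0 0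
      rw [add_zero, eq_comm, mul_eq_left] at h
      exact h ▸ one_mem Z
    | succ n ih => rw [succ_nsmul, hfadd, hfz]; exact mul_mem ih D.z_mem)
  obtain ⟨wb', hwb'⟩ := inv_wact wb
  refine ⟨fun v => f (wact wb v), ⟨fun u v => by rw [hlin, hfadd], fun u v e => ?_, fun v => ⟨hfE _, hft _⟩,
    fun u hu hut => ?_, by rw [hwz, hfz], by rw [hwb, hvb], fun w => ?_, fun n hna hnE => ?_,
    fun v hv => htwo' _ (htwo v wb hv)⟩, fun v hv hsum => ?_, ?_⟩
  · have := congrArg (wact wb') (hfinj e)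
    rwa [(hwb' u).2, (hwb' v).2] at this
  · obtain ⟨v, hv⟩ := hfsurj u hu hut
    exact ⟨wact wb' v, by rw [(hwb' v).1, hv]⟩
  · obtain ⟨n, h1, h2, h3, h4⟩ := hmon (wb * w * wb')
    exact ⟨n, h1, h2, h3, fun v => by rw [h4, hwmul, hwmul, (hwb' v).2]⟩
  · obtain ⟨w, hw⟩ := hnorm n hna hnE
    exact ⟨wb' * w * wb, fun v => by rw [hw, hwmul, hwmul, (hwb' _).1]⟩
  · have h : y ∈ zpowers a ⊔ Q2 := by
      rw [← hv, hbR]
      exact (show ∀ (w : Wt) (v : V3), wact w (1, 1, 1) = (1, 1, 1) → v.1 + v.2.1 + v.2.2 = 0 →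
        (wact w v).1 + (wact w v).2.1 + (wact w v).2.2 = 0 by decide +kernel) wb v hwz hsum
    exact D.y_not (D.aQ2_le h)
  · obtain ⟨u1, hu1⟩ := inv_wact w1
    refine hdi.imp (And.imp_left fun h g hga hg => ?_) (And.imp_left fun h hax => h fun g hga hg => ?_)
    · exact haxis (u1 * wb') _ (by rw [hwmul, (hwb' _).2, ← hw1, (hu1 _).2]; exact h) g hga hg
    · exact haxis (wb * w1) _ (by rw [hwmul, hw1]; exact fun g' h1 h2 => hax g' h1 h2) g hga hg

end Local

end Cfsg.Agent.FFourLocal
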