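import Cfsg.Agent.Lib.FFourLocal.Cent.Main
import Cfsg.Agent.Lib.FFourLocal.Kill.Sig
import Cfsg.Agent.Lib.FFourLocal.Kill.Pair
import Cfsg.Agent.Lib.FFourLocal.Lift.Main

/-!
# Coordinates on both centralizers on both centralizers
-/

set_option autoImplicit false

namespace Cfsg.Agent.FFourLocal

open Subgroup Cfsg.Agent.SpThreeCent.SixEnd
open Cfsg.Agent.NineSym (V3)

universe u

variable {G : Type u} [Group G] [Finite G] {Z Q Q1 Q2 L1 L2 E : Subgroup G} {t1 t2 z y a b : G}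

/-- The coordinates on both centralizers. -/
theorem exists_six_of_local (D : Local Z Q Q1 Q2 L1 L2 E t1 t2 z y a b) :
    ∃ y', Local Z Q Q1 Q2 L1 L2 E t1 t2 z y' a b ∧
      ∃ φ ψ : S →* G, Six a t1 z y' b φ ∧ Six b t2 z (y'⁻¹ * z) a ψ :=
  let h := exists_big D
    (fun _ _ _ _ _ _ _ _ _ _ _ _ _ _ _ D hc h1 h2 hax hτ hcm => Kill.exists_sig D hc h1 h2 hax hτ hcm)
    (fun _ _ _ _ _ _ _ _ _ _ _ _ _ _ _ D _ _ _ _ hτ hs => Kill.pair_of_small D hτ hs)
  Lift.exists_six_of_big D h.1 h.2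

end Cfsg.Agent.FFourLocal
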