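import Cfsg.Agent.Lib.FFourLocal.Kill.Tau
import Cfsg.Agent.Lib.FFourLocal.Kill.Final

/-!
# Both centralizers are `3 × Sp₆(2)` modulo the element
-/

set_option autoImplicit false
set_option linter.unusedSectionVars false

namespace Cfsg.Agent.FFourLocal

open Subgroup
open Cfsg.Agent.NineSym (V3)

universe u

variable {G : Type u} [Group G] [Finite G] {Z Q Q1 Q2 L1 L2 E : Subgroup G} {t1 t2 z y a b : G}

/-- `C(a)/⟨a⟩` and `C(b)/⟨b⟩` are `Sp₆(2)`. -/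
theorem exists_big (D : Local Z Q Q1 Q2 L1 L2 E t1 t2 z y a b)
    (hSig : ∀ (Z Q Q1 Q2 L1 L2 E : Subgroup G) (t1 t2 z y a b : G) (c : V3 → G) (τ : G),
      Local Z Q Q1 Q2 L1 L2 E t1 t2 z y a b → Coord a t1 z b E c → c (1, 0, 0) = y →
      c (0, 1, 1) = y⁻¹ * z → Axis a E c → Kill.Tau E t1 t2 z y a b τ →
      (∀ l ∈ L1, ∀ x ∈ Kill.L3 L1 τ, l * x = x * l) → ∃ R, Kill.Sig Q2 L1 E t1 z y b τ R)
    (hPair : ∀ (Z Q Q1 Q2 L1 L2 E : Subgroup G) (t1 t2 z y a b : G) (c : V3 → G) (τ : G),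
      Local Z Q Q1 Q2 L1 L2 E t1 t2 z y a b → Coord a t1 z b E c → c (1, 0, 0) = y →
      c (0, 1, 1) = y⁻¹ * z → Axis a E c → Kill.Tau E t1 t2 z y a b τ → SmallLoc b z Q1 E →
      (∀ l ∈ L1, ∀ x ∈ Kill.L3 L1 τ, l * x = x * l) ∧
      ∀ K : Subgroup G, IsPGroup 2 ↥K → K ≤ centralizer ({t1} : Set G) → K ≤ centralizer ({b} : Set G) →
        L1 ≤ K → z ∈ normalizer (K : Set G) → (∃ k ∈ K, k * z ≠ z * k) → Kill.L3 L1 τ ≤ K) :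
    Big a ∧ Big b := by
  obtain ⟨y', D', c, d, hc, hd, c1, c2, d1, d2, hcase⟩ := D.exists_oriented
  rcases hcase with ⟨hax, hsa, hbx, hsb⟩ | h
  · exfalso
    have hy : (y'⁻¹ * z)⁻¹ * z = y' := by
      rw [mul_inv_rev, inv_inv, mul_assoc, (show Commute y' z from D'.yz).eq, inv_mul_cancel_left]
    have d2' : d (0, 1, 1) = (y'⁻¹ * z)⁻¹ * z := by rw [hy, d2]
    obtain ⟨τ, hτ⟩ := Kill.exists_tau D' hd d1 d2
    obtain ⟨τ', hτ'⟩ := Kill.exists_tau D'.symm hc (by rw [hy, c1]) c2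
    obtain ⟨hcm, hP⟩ := hPair _ _ _ _ _ _ _ _ _ _ _ _ _ c τ D' hc c1 c2 hax hτ hsb
    obtain ⟨hcm', hP'⟩ := hPair _ _ _ _ _ _ _ _ _ _ _ _ _ d τ' D'.symm hd d1 d2' hbx hτ' hsa
    obtain ⟨R, hS⟩ := hSig _ _ _ _ _ _ _ _ _ _ _ _ _ c τ D' hc c1 c2 hax hτ hcm
    obtain ⟨R', hS'⟩ := hSig _ _ _ _ _ _ _ _ _ _ _ _ _ d τ' D'.symm hd d1 d2' hbx hτ' hcm'
    exact Kill.contradiction_of_sig D' hτ hτ' hS hS' hP hP'
  · exact h

end Cfsg.Agent.FFourLocal
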