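import Cfsg.Agent.Lib.FFourLocal.Cent.Coord

/-!
# The orientation: `y` has weight one on the side of `a`, `y⁻¹z` on the side of `b`

The pairs `(a, y⁻¹z)` and `(y, b)` correspond under the element of `swap`, so the two sides agree;
if both are turned the wrong way, a product of two monomial elements is a new swap.
-/

set_option autoImplicit false
set_option linter.unusedSectionVars false
set_option linter.style.haveILetI false
set_option maxRecDepth 100000
set_option synthInstance.maxSize 10000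

namespace Cfsg.Agent.FFourLocal

open Subgroup
open Cfsg.Agent.NineSym (V3 Wt wact)

universe u

theorem y_cases : ∀ (w : Wt) (v : V3), wact w (1, 1, 1) = (1, 1, 1) →
    wact w (0, 1, -1) = -(0, 1, -1) → wact w v = v → v.1 + v.2.1 + v.2.2 ≠ 0 →
    v = (1, 0, 0) ∨ v = (0, 1, 1) ∨ (∃ u : Wt, wact u (1, 1, 1) = v) ∨
      ∃ u : Wt, wact u (1, 1, 1) = (1, 1, 1) - v := by
  decide +kernel

theorem four_facts :
    (∃ w : Wt, wact w (1, 0, 0) = (1, 0, 0) ∧ wact w (wact w (0, 1, -1)) ≠ (0, 1, -1)) ∧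
    (∀ w : Wt, wact w (0, 1, 1) = (0, 1, 1) → ∀ v : V3, wact w (wact w v) = v) ∧
    (∃ w : Wt, wact w (1, 0, 0) = (1, 0, 0) ∧ wact w (0, 1, -1) = (0, 1, 1) ∧ wact w (0, 1, 1) = (0, 1, -1)) ∧
    ∃ w : Wt, wact w (1, 0, 0) = (1, 0, 0) ∧ wact w (0, 1, 1) = (0, 1, -1) ∧ wact w (0, 1, -1) = (0, 1, 1) := by
  decide +kernel

namespace Local

variable {G : Type u} [Group G] [Finite G] {Z Q Q1 Q2 L1 L2 E : Subgroup G} {t1 t2 z y a b : G}
variable (D : Local Z Q Q1 Q2 L1 L2 E t1 t2 z y a b)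
include D

theorem coord_sub {c : V3 → G} (hc : Coord a t1 z b E c) {v : V3} (hv : c v = y) :
    c ((1, 1, 1) - v) = y⁻¹ * z := by
  have h := hc.add ((1, 1, 1) - v) v
  rw [sub_add_cancel, hc.map_z, hv] at h
  rw [h, show y⁻¹ * (c ((1, 1, 1) - v) * y) = y⁻¹ * (y * c ((1, 1, 1) - v)) by
    rw [D.E_comm _ (hc.mem _).1 y D.y_E'], inv_mul_cancel_left]

theorem y_coord {c : V3 → G} (hc : Coord a t1 z b E c)
    (hsum : ∀ v, c v = y → v.1 + v.2.1 + v.2.2 ≠ 0) : c (1, 0, 0) = y ∨ c (0, 1, 1) = y := by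
  obtain ⟨v, hv⟩ := hc.surj y D.y_E' D.y_t1.symm
  -- `t2` acts as the exchange of the last two planes
  have hnE : t2 ∈ normalizer (E : Set G) := by
    refine Subgroup.mem_normalizer_fintype fun u hu => ?_
    have hle : E ≤ E.comap (MulAut.conj t2).toMonoidHom := by
      refine D.E_eq.le.trans (sup_le (sup_le (sup_le ?_ ?_) ?_) ?_) <;>
        rw [zpowers_le, mem_comap, MulEquiv.coe_toMonoidHom, MulAut.conj_apply]
      · rw [D.base.conj_Z D.t2_cent D.z_mem]; exact D.z_E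
      · rw [D.t2_a, mul_inv_cancel_right]; exact D.a_E'
      · rw [D.t2_b]; exact inv_mem D.b_E'
      · rw [D.y_t2, mul_inv_cancel_right]; exact D.y_E'
    have := hle hu
    simp only [mem_comap, MulEquiv.coe_toMonoidHom, MulAut.conj_apply] at this; exact this
  obtain ⟨w, hw⟩ := hc.norm t2 D.t2_a hnE
  have h1 : wact w (1, 1, 1) = (1, 1, 1) := hc.inj (by
    rw [← hw, hc.map_z, D.base.conj_Z D.t2_cent D.z_mem])
  have hc0 : c 0 = 1 := by
    have := hc.add 0 0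
    rwa [add_zero, eq_comm, mul_eq_left] at this
  have hneg : ∀ u, c (-u) = (c u)⁻¹ := fun u => eq_inv_of_mul_eq_one_left (by
    rw [← hc.add, neg_add_cancel, hc0])
  have h2 : wact w (0, 1, -1) = -(0, 1, -1) := hc.inj (by rw [← hw, hneg, hc.map_b, D.t2_b])
  have h3 : wact w v = v := hc.inj (by rw [← hw, hv, D.y_t2, mul_inv_cancel_right])
  rcases y_cases w v h1 h2 h3 (hsum v hv) with rfl | rfl | ⟨u, hu⟩ | ⟨u, hu⟩
  · exact Or.inl hv
  · exact Or.inr hv
  · exfalso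
    obtain ⟨g, -, -, gy, -⟩ := D.swap
    obtain ⟨n, -, -, -, hn⟩ := hc.mon u
    refine D.not_pt (g * n) ?_
    rw [show g * n * z * (g * n)⁻¹ = g * (n * z * n⁻¹) * g⁻¹ by group, ← hc.map_z, hn, hu, hv, gy]
  · exfalso
    obtain ⟨g, -, -, -, gy'⟩ := D.swap
    obtain ⟨n, -, -, -, hn⟩ := hc.mon u
    refine D.symm.not_pt (g * n) ?_
    rw [show g * n * z * (g * n)⁻¹ = g * (n * z * n⁻¹) * g⁻¹ by group, ← hc.map_z, hn, hu,
      D.coord_sub hc hv, gy']

/-- The sides cannot be turned differently. -/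
theorem not_mixed {c d : V3 → G} (hc : Coord a t1 z b E c) (hd : Coord b t2 z a E d)
    (h1 : c (1, 0, 0) = y⁻¹ * z) (h2 : d (0, 1, 1) = y) : False := by
  obtain ⟨g, ga, gb, gy, gy'⟩ := D.swap
  obtain ⟨⟨w, hwf, hw2⟩, hinv, -, -⟩ := four_facts
  obtain ⟨n, hna, -, hnE, hn⟩ := hc.mon w
  have hgE : g ∈ normalizer (E : Set G) := by
    refine Subgroup.mem_normalizer_fintype fun u hu => ?_
    have hle : E ≤ E.comap (MulAut.conj g).toMonoidHom := by
      refine D.E_eq.le.trans (sup_le (sup_le (sup_le ?_ ?_) ?_) ?_) <;>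
        rw [zpowers_le, mem_comap, MulEquiv.coe_toMonoidHom, MulAut.conj_apply]
      · rw [show g * z * g⁻¹ = (g * y * g⁻¹) * (g * (y⁻¹ * z) * g⁻¹) by group, gy, gy']
        exact mul_mem D.a_E' D.b_E'
      · rw [ga]; exact D.y_E'
      · rw [gb]; exact mul_mem (inv_mem D.y_E') D.z_E
      · rw [gy]; exact D.a_E'
    have := hle hu
    simp only [mem_comap, MulEquiv.coe_toMonoidHom, MulAut.conj_apply] at this; exact this
  set m := g * n * g⁻¹
  have hmE : m ∈ normalizer (E : Set G) := mul_mem (mul_mem hgE hnE) (inv_mem hgE)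
  have hny' : n * (y⁻¹ * z) * n⁻¹ = y⁻¹ * z := by rw [← h1, hn, hwf]
  have hmy : m * y * m⁻¹ = y := by
    conv_lhs => rw [← ga]
    rw [show m * (g * a * g⁻¹) * m⁻¹ = g * (n * a * n⁻¹) * g⁻¹ by simp only [m]; group, hna, mul_inv_cancel_right, ga]
  have hmb : m * b = b * m := by
    refine mul_inv_eq_iff_eq_mul.1 ?_
    conv_lhs => rw [← gy']
    rw [show m * (g * (y⁻¹ * z) * g⁻¹) * m⁻¹ = g * (n * (y⁻¹ * z) * n⁻¹) * g⁻¹ by simp only [m]; group, hny', gy']
  obtain ⟨w', hw'⟩ := hd.norm m hmb hmE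
  have hw'f : wact w' (0, 1, 1) = (0, 1, 1) := hd.inj (by rw [← hw', h2, hmy])
  -- so the square of `m` centralises `E`
  let S : Subgroup G := centralizer ({m * m} : Set G)
  have hS : E ≤ S := by
    intro u hu
    obtain ⟨x, hx, hxt, hxu⟩ := D.symm.t1_E hu
    obtain ⟨v, hv⟩ := hd.surj x hx hxt
    have h3 : m * m * x = x * (m * m) := by
      refine mul_inv_eq_iff_eq_mul.1 ?_
      rw [show m * m * x * (m * m)⁻¹ = m * (m * x * m⁻¹) * m⁻¹ by group, ← hv, hw', hw', hinv w' hw'f]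
    have hb : b ∈ S := mem_centralizer_singleton_iff.2
      ((show Commute m b from hmb).mul_left hmb).symm.eq
    have hxS : x ∈ S := mem_centralizer_singleton_iff.2 h3.symm
    have := S.mul_mem hxS (S.inv_mem (zpowers_le.2 hb hxu))
    rwa [mul_inv_rev, inv_inv, mul_inv_cancel_left] at this
  refine hw2 (hc.inj ?_)
  rw [← hn, ← hn, hc.map_b]
  have hbg : g⁻¹ * b * g ∈ E := by
    simpa using (mem_normalizer_iff.1 (inv_mem hgE) b).1 D.b_E'
  have hmm : ∀ e ∈ E, n * (n * e * n⁻¹) * n⁻¹ = e := by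
    intro e he
    have hge : g * e * g⁻¹ ∈ E := (mem_normalizer_iff.1 hgE e).1 he
    have h := mem_centralizer_singleton_iff.1 (hS hge)
    calc n * (n * e * n⁻¹) * n⁻¹ = g⁻¹ * ((m * m) * (g * e * g⁻¹) * (m * m)⁻¹) * g := by simp only [m]; group
      _ = g⁻¹ * (g * e * g⁻¹) * g := by rw [← h, mul_inv_cancel_right]
      _ = e := by group
  exact hmm b D.b_E'

theorem swap_norm {g : G} (ga : g * a * g⁻¹ = y) (gb : g * b * g⁻¹ = y⁻¹ * z) (gy : g * y * g⁻¹ = a)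
    (gy' : g * (y⁻¹ * z) * g⁻¹ = b) : g ∈ normalizer (E : Set G) := by
  refine Subgroup.mem_normalizer_fintype fun u hu => ?_
  have hle : E ≤ E.comap (MulAut.conj g).toMonoidHom := by
    refine D.E_eq.le.trans (sup_le (sup_le (sup_le ?_ ?_) ?_) ?_) <;>
      rw [zpowers_le, mem_comap, MulEquiv.coe_toMonoidHom, MulAut.conj_apply]
    · rw [show g * z * g⁻¹ = (g * y * g⁻¹) * (g * (y⁻¹ * z) * g⁻¹) by group, gy, gy']
      exact mul_mem D.a_E' D.b_E'
    · rw [ga]; exact D.y_E'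
    · rw [gb]; exact mul_mem (inv_mem D.y_E') D.z_E
    · rw [gy]; exact D.a_E'
  have := hle hu
  simp only [mem_comap, MulEquiv.coe_toMonoidHom, MulAut.conj_apply] at this
  exact this

/-- The first axes of the two sides are small together. -/
theorem axis_transfer {c d : V3 → G} (hc : Coord a t1 z b E c) (h1 : c (1, 0, 0) = y)
    (h2 : c (0, 1, 1) = y⁻¹ * z) (h3 : d (1, 0, 0) = y⁻¹ * z) (hax : Axis a E c) : Axis b E d := by
  obtain ⟨g0, ga, gb, gy, gy'⟩ := D.swap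
  have hgE := D.swap_norm ga gb gy gy'
  obtain ⟨⟨w, hw1, hw2⟩, ⟨w', hw'⟩, e1, e2⟩ :
      (∃ w : Wt, wact w (0, 1, 0) = (1, 0, 0) ∧ wact w (0, 0, 1) = (0, 1, 0)) ∧
      (∃ w : Wt, wact w (0, 1, 0) = (1, 0, 0)) ∧
      ((0, 2, 0) : V3) + (0, 2, 0) = (0, 1, 0) ∧ ((0, 0, 2) : V3) + (0, 0, 2) = (0, 0, 1) := by
    decide +kernel
  intro g hgb hgy'
  rw [h3] at hgy'
  -- `g` centralises the last two axes of the side of `a`
  have hb' : c (0, 1, -1) = b := hc.map_b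
  have hc0 : c 0 = 1 := by
    have := hc.add 0 0
    rwa [add_zero, eq_comm, mul_eq_left] at this
  have hcneg : ∀ u, c (-u) = (c u)⁻¹ := fun u => eq_inv_of_mul_eq_one_left (by
    rw [← hc.add, neg_add_cancel, hc0])
  have p1 : c (0, 2, 0) = y⁻¹ * z * b := by
    rw [show ((0, 2, 0) : V3) = (0, 1, 1) + (0, 1, -1) by decide, hc.add, h2, hb']
  have p2 : c (0, 0, 2) = y⁻¹ * z * b⁻¹ := by
    rw [show ((0, 0, 2) : V3) = (0, 1, 1) + -(0, 1, -1) by decide, hc.add, hcneg, h2, hb']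
  have hg1 : Commute g (c (0, 1, 0)) := by
    rw [← e1, hc.add, p1]
    exact ((show Commute g _ from hgy').mul_right hgb).mul_right ((show Commute g _ from hgy').mul_right hgb)
  have hg2 : Commute g (c (0, 0, 1)) := by
    rw [← e2, hc.add, p2]
    exact ((show Commute g _ from hgy').mul_right (show Commute g b from hgb).inv_right).mul_right
      ((show Commute g _ from hgy').mul_right (show Commute g b from hgb).inv_right)
  -- move to the pair of the first two axes and apply the swap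
  obtain ⟨n, -, -, hnE, hn⟩ := hc.mon w
  set h := g0 * (n * g * n⁻¹) * g0⁻¹ with hh
  have hn1 : Commute (n * g * n⁻¹) y := by
    rw [← h1, ← hw1, ← hn]
    have := hg1.map (MulAut.conj n).toMonoidHom
    simpa only [MulEquiv.coe_toMonoidHom, MulAut.conj_apply] using this
  have hn2 : Commute (n * g * n⁻¹) (c (0, 1, 0)) := by
    rw [← hw2, ← hn]
    have := hg2.map (MulAut.conj n).toMonoidHom
    simpa only [MulEquiv.coe_toMonoidHom, MulAut.conj_apply] using this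
  have hha : Commute h a := by
    have := hn1.map (MulAut.conj g0).toMonoidHom
    simp only [MulEquiv.coe_toMonoidHom, MulAut.conj_apply, gy] at this
    exact this
  have hfix : g0 * c (0, 1, 0) * g0⁻¹ = c (0, 1, 0) := by
    have e : g0 * c (0, 2, 0) * g0⁻¹ = c (0, 2, 0) := by
      rw [p1, show g0 * (y⁻¹ * z * b) * g0⁻¹ = (g0 * (y⁻¹ * z) * g0⁻¹) * (g0 * b * g0⁻¹) by group, gy', gb]
      exact D.E_comm b D.b_E' _ (mul_mem (inv_mem D.y_E') D.z_E)
    rw [← e1, hc.add, show g0 * (c (0, 2, 0) * c (0, 2, 0)) * g0⁻¹ =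
      (g0 * c (0, 2, 0) * g0⁻¹) * (g0 * c (0, 2, 0) * g0⁻¹) by group, e]
  have hhc : Commute h (c (0, 1, 0)) := by
    have := hn2.map (MulAut.conj g0).toMonoidHom
    simp only [MulEquiv.coe_toMonoidHom, MulAut.conj_apply, hfix] at this
    exact this
  -- and to the first axis
  obtain ⟨n', hn'a, -, hn'E, hn'⟩ := hc.mon w'
  have h5 : n' * h * n'⁻¹ ∈ normalizer (E : Set G) := by
    refine hax _ (((show Commute n' a from hn'a).mul_left hha).mul_left
      (show Commute n' a from hn'a).inv_left).eq ?_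
    rw [← hw', ← hn']
    have := (hhc.map (MulAut.conj n').toMonoidHom).eq
    simpa only [MulEquiv.coe_toMonoidHom, MulAut.conj_apply] using this
  have h6 := mul_mem (mul_mem (inv_mem hn'E) h5) hn'E
  rw [show n'⁻¹ * (n' * h * n'⁻¹) * n' = h by group] at h6
  have h7 := mul_mem (mul_mem (inv_mem hgE) h6) hgE
  rw [show g0⁻¹ * h * g0 = n * g * n⁻¹ by rw [hh]; group] at h7
  have h8 := mul_mem (mul_mem (inv_mem hnE) h7) hnE
  rwa [show n⁻¹ * (n * g * n⁻¹) * n = g by group] at h8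

/-- The same data with `y` and `y⁻¹ z` exchanged, given a swap for them. -/
theorem flip {g : G} (g1 : g * a * g⁻¹ = y⁻¹ * z) (g2 : g * b * g⁻¹ = y) (g3 : g * (y⁻¹ * z) * g⁻¹ = a)
    (g4 : g * y * g⁻¹ = b) : Local Z Q Q1 Q2 L1 L2 E t1 t2 z (y⁻¹ * z) a b := by
  have hy : (y⁻¹ * z)⁻¹ * z = y := by
    rw [mul_inv_rev, inv_inv, mul_assoc, (show Commute y z from D.yz).eq, inv_mul_cancel_left]
  have S := D.symm
  refine ⟨D.base, D.small, D.z_mem, D.z_ne, D.a_mem, D.a_not, D.b_mem, D.b_not, S.y_cent, S.y_not, S.y_cube,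
    S.y_b, S.y_a, S.y_t2, S.y_t1, D.t1_a, D.t2_b, ?_, D.E_card, D.E_comm, D.E_exp,
    ⟨g, g1, by rw [hy]; exact g2, g3, by rw [hy]; exact g4⟩, D.sig, D.cls, S.y_diag2, S.y_diag1⟩
  rw [S.E_eq]
  ac_rfl

/-- The data may be chosen with `y` of weight one on the side of `a` and `y⁻¹ z` on the side of `b`. -/
theorem exists_oriented : ∃ y', Local Z Q Q1 Q2 L1 L2 E t1 t2 z y' a b ∧
    ∃ c d : V3 → G, Coord a t1 z b E c ∧ Coord b t2 z a E d ∧ c (1, 0, 0) = y' ∧ c (0, 1, 1) = y'⁻¹ * z ∧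
      d (1, 0, 0) = y'⁻¹ * z ∧ d (0, 1, 1) = y' ∧
      ((Axis a E c ∧ SmallLoc a z Q2 E ∧ Axis b E d ∧ SmallLoc b z Q1 E) ∨ (Big a ∧ Big b)) := by
  obtain ⟨c, hc, hcs, hca⟩ := D.exists_coord
  obtain ⟨d, hd, hds, hdb⟩ := D.symm.exists_coord
  have main : ∀ y' : G, ∀ D' : Local Z Q Q1 Q2 L1 L2 E t1 t2 z y' a b, c (1, 0, 0) = y' →
      c (0, 1, 1) = y'⁻¹ * z → d (1, 0, 0) = y'⁻¹ * z → d (0, 1, 1) = y' →
      ((Axis a E c ∧ SmallLoc a z Q2 E ∧ Axis b E d ∧ SmallLoc b z Q1 E) ∨ (Big a ∧ Big b)) := by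
    intro y' D' h1 h2 h3 h4
    rcases hca with ⟨ha1, ha2⟩ | ⟨ha1, ha2⟩ <;> rcases hdb with ⟨hb1, hb2⟩ | ⟨hb1, hb2⟩
    · exact Or.inl ⟨ha1, ha2, hb1, hb2⟩
    · exact absurd (D'.axis_transfer hc h1 h2 h3 ha1) hb1
    · refine absurd (D'.symm.axis_transfer hd h3 ?_ ?_ hb1) ha1 <;>
        rw [mul_inv_rev, inv_inv, mul_assoc, (show Commute y' z from D'.yz).eq, inv_mul_cancel_left]
      exacts [h4, h1]
    · exact Or.inr ⟨ha2, hb2⟩
  have hy : (y⁻¹ * z)⁻¹ * z = y := by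
    rw [mul_inv_rev, inv_inv, mul_assoc, (show Commute y z from D.yz).eq, inv_mul_cancel_left]
  have hd' : ∀ v, d v = y⁻¹ * z → d ((1, 1, 1) - v) = y := fun v hv => (D.symm.coord_sub hd hv).trans hy
  have e1 : ((1, 1, 1) : V3) - (1, 0, 0) = (0, 1, 1) := by decide
  have e2 : ((1, 1, 1) : V3) - (0, 1, 1) = (1, 0, 0) := by decide
  rcases D.y_coord hc hcs with h | h <;> rcases D.symm.y_coord hd hds with k | k
  · exact ⟨y, D, c, d, hc, hd, h, e1 ▸ D.coord_sub hc h, k, e1 ▸ hd' _ k,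
      main y D h (e1 ▸ D.coord_sub hc h) k (e1 ▸ hd' _ k)⟩
  · exfalso
    refine D.symm.not_mixed hd hc ?_ ?_
    · rw [hy]; exact e2 ▸ hd' _ k
    · exact e1 ▸ D.coord_sub hc h
  · exact (D.not_mixed hc hd (e2 ▸ D.coord_sub hc h) (e1 ▸ hd' _ k)).elim
  · -- both turned: a new swap
    have hy1 : c (1, 0, 0) = y⁻¹ * z := e2 ▸ D.coord_sub hc h
    have hd1 : d (1, 0, 0) = y := e2 ▸ hd' _ k
    obtain ⟨-, -, ⟨w, hw1, hw2, hw3⟩, ⟨w', hv1, hv2, hv3⟩⟩ := four_facts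
    obtain ⟨n, hna, -, -, hn⟩ := hc.mon w
    obtain ⟨m, hmb, -, -, hm⟩ := hd.mon w'
    have na : n * a * n⁻¹ = a := by rw [hna, mul_inv_cancel_right]
    have mb : m * b * m⁻¹ = b := by rw [hmb, mul_inv_cancel_right]
    have ny' : n * (y⁻¹ * z) * n⁻¹ = y⁻¹ * z := by rw [← hy1, hn, hw1]
    have nb : n * b * n⁻¹ = y := by rw [← hc.map_b, hn, hw2, h]
    have ny : n * y * n⁻¹ = b := by rw [← h, hn, hw3, hc.map_b]
    have my : m * y * m⁻¹ = y := by rw [← hd1, hm, hv1]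
    have ma : m * a * m⁻¹ = y⁻¹ * z := by rw [← hd.map_b, hm, hv3, k]
    have my' : m * (y⁻¹ * z) * m⁻¹ = a := by rw [← k, hm, hv2, hd.map_b]
    have D' : Local Z Q Q1 Q2 L1 L2 E t1 t2 z (y⁻¹ * z) a b := by
      refine D.flip (g := n * m) ?_ ?_ ?_ ?_
      · rw [show n * m * a * (n * m)⁻¹ = n * (m * a * m⁻¹) * n⁻¹ by group, ma, ny']
      · rw [show n * m * b * (n * m)⁻¹ = n * (m * b * m⁻¹) * n⁻¹ by group, mb, nb]
      · rw [show n * m * (y⁻¹ * z) * (n * m)⁻¹ = n * (m * (y⁻¹ * z) * m⁻¹) * n⁻¹ by group, my', na]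
      · rw [show n * m * y * (n * m)⁻¹ = n * (m * y * m⁻¹) * n⁻¹ by group, my, ny]
    refine ⟨y⁻¹ * z, D', c, d, hc, hd, hy1, ?_, ?_, k, main _ D' hy1 ?_ ?_ k⟩
    all_goals rw [hy]
    all_goals first | exact h | exact hd1

end Local

end Cfsg.Agent.FFourLocal
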