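import Cfsg.Agent.Lib.FFourLocal.Interface

/-!
# Generators and coordinates of `Q₁` and `Q₂`; the elements of `C(Z)` acting trivially on `Q/Z`
-/

set_option autoImplicit false
set_option linter.unusedSectionVars false
set_option linter.style.haveILetI false

namespace Cfsg.Agent.FFourLocal

open Subgroup
open scoped commutatorElement

universe u

variable {G : Type u} [Group G]

theorem pow_mod_three {x : G} (h : x ^ 3 = 1) (n : ℕ) : x ^ n = x ^ (n % 3) := by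
  conv_lhs => rw [← Nat.mod_add_div n 3, pow_add, pow_mul, h, one_pow, mul_one]

theorem orderOf_three {x : G} (h : x ^ 3 = 1) (h1 : x ≠ 1) : orderOf x = 3 := by
  haveI : Fact (Nat.Prime 3) := ⟨Nat.prime_three⟩
  exact orderOf_eq_prime h h1

theorem pow_inj_three {x : G} (h : x ^ 3 = 1) (h1 : x ≠ 1) {i j : Fin 3}
    (e : x ^ (i : ℕ) = x ^ (j : ℕ)) : i = j := by
  have := pow_injOn_Iio_orderOf (x := x) (by rw [orderOf_three h h1]; exact Set.mem_Iio.2 i.2)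
    (by rw [orderOf_three h h1]; exact Set.mem_Iio.2 j.2) e
  exact Fin.ext this

variable {Z Q Q1 Q2 L1 L2 : Subgroup G} {t1 t2 : G}

namespace Base

variable (B : Base Z Q Q1 Q2 L1 L2 t1 t2)
include B

theorem Z_leQ : Z ≤ Q := B.Z1.trans B.le1

theorem fix_Z {c z : G} (hc : c ∈ centralizer (Z : Set G)) (hz : z ∈ Z) : c * z = z * c :=
  (mem_centralizer_iff.1 hc z hz).symm

theorem conj_Z {c z : G} (hc : c ∈ centralizer (Z : Set G)) (hz : z ∈ Z) : c * z * c⁻¹ = z := by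
  rw [B.fix_Z hc hz, mul_inv_cancel_right]

theorem Z_comm {x z : G} (hx : x ∈ Q) (hz : z ∈ Z) : Commute x z := B.fix_Z (B.Q_le hx) hz

theorem br_mem {x y : G} (hx : x ∈ Q) (hy : y ∈ Q) : ⁅x, y⁆ ∈ Z :=
  B.derived (commutator_mem_commutator hx hy)

theorem conj_memQ {c x : G} (hc : c ∈ centralizer (Z : Set G)) (hx : x ∈ Q) : c * x * c⁻¹ ∈ Q :=
  (mem_normalizer_iff.1 (B.Q_norm hc) x).1 hx

theorem Z_cube {z : G} (hz : z ∈ Z) : z ^ 3 = 1 := B.cube z (B.Z_leQ hz)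

theorem mem_Z_of_comm {x : G} (hx : x ∈ Q) (h : ∀ u ∈ Q, Commute u x) : x ∈ Z := by
  rw [← B.Z_eq]
  exact ⟨⟨x, hx⟩, mem_center_iff.2 fun u => Subtype.ext (h u u.2).eq, rfl⟩

theorem br_mul_left {x y w : G} (hx : x ∈ Q) (hy : y ∈ Q) (hw : w ∈ Q) :
    ⁅x * y, w⁆ = ⁅x, w⁆ * ⁅y, w⁆ := by
  have e : x * ⁅y, w⁆ * x⁻¹ = ⁅y, w⁆ := B.conj_Z (B.Q_le hx) (B.br_mem hy hw)
  calc ⁅x * y, w⁆ = x * ⁅y, w⁆ * x⁻¹ * ⁅x, w⁆ := by simp only [commutatorElement_def]; group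
    _ = ⁅y, w⁆ * ⁅x, w⁆ := by rw [e]
    _ = _ := ((B.Z_comm (B.Z_leQ (B.br_mem hy hw)) (B.br_mem hx hw)).eq)

theorem br_eq_one {x y : G} : ⁅x, y⁆ = 1 ↔ Commute x y := commutatorElement_eq_one_iff_commute

/-- An element of a factor outside `Z` has a partner with commutator a given element of `Z`. -/
theorem exists_partner {R R' : Subgroup G} (hR : R ≤ Q) (hcomm : ∀ x ∈ R, ∀ y ∈ R', Commute x y)
    (hgen : R ⊔ R' = Q) {a z : G} (ha : a ∈ R) (haZ : a ∉ Z) (hz : z ∈ Z) :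
    ∃ r ∈ R, ⁅a, r⁆ = z := by
  classical
  by_cases hz1 : z = 1
  · exact ⟨1, one_mem _, by rw [hz1]; simp [commutatorElement_def]⟩
  obtain ⟨r, hr, hne⟩ : ∃ r ∈ R, ⁅a, r⁆ ≠ 1 := by
    by_contra hall
    push Not at hall
    refine haZ (B.mem_Z_of_comm (hR ha) fun u hu => ?_)
    have hle : Q ≤ centralizer ({a} : Set G) := by
      rw [← hgen]
      exact sup_le (fun x hx => mem_centralizer_singleton_iff.2 (B.br_eq_one.1 (hall x hx)).symm.eq)
        fun x hx => mem_centralizer_singleton_iff.2 (hcomm a ha x hx).symm.eq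
    exact mem_centralizer_singleton_iff.1 (hle hu)
  have hb := B.br_mem (hR ha) (hR hr)
  have hz3 : (⟨⁅a, r⁆, hb⟩ : ↥Z) ≠ 1 := fun e => hne (congrArg Subtype.val e)
  haveI : Fact (Nat.Prime 3) := ⟨Nat.prime_three⟩
  have hmem : (⟨z, hz⟩ : ↥Z) ∈ zpowers (⟨⁅a, r⁆, hb⟩ : ↥Z) := by
    rw [zpowers_eq_top_of_prime_card B.Z_card hz3]
    exact mem_top _
  obtain ⟨k, hk⟩ := mem_zpowers_iff.1 hmem
  have hk' : ⁅a, r⁆ ^ k = z := congrArg Subtype.val hk
  let f : ↥R →* G := MonoidHom.mk' (fun x => ⁅a, (x : G)⁆) (fun u v => by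
    have h1 : (u : G) * ⁅a, (v : G)⁆ * (u : G)⁻¹ = ⁅a, (v : G)⁆ :=
      B.conj_Z (B.Q_le (hR u.2)) (B.br_mem (hR ha) (hR v.2))
    calc ⁅a, ((u * v : ↥R) : G)⁆ = ⁅a, (u : G)⁆ * ((u : G) * ⁅a, (v : G)⁆ * (u : G)⁻¹) := by
          simp only [Subgroup.coe_mul, commutatorElement_def]; group
      _ = _ := by rw [h1])
  refine ⟨((⟨r, hr⟩ : ↥R) ^ k : ↥R), SetLike.coe_mem _, ?_⟩
  show f ((⟨r, hr⟩ : ↥R) ^ k) = z
  rw [map_zpow]
  exact hk'

/-- Coordinates on a factor. -/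
theorem factor_coords [Finite G] {R : Subgroup G} (hR : R ≤ Q) (hcard : Nat.card R = 27) (hZR : Z ≤ R)
    {a r z : G} (ha : a ∈ R) (hr : r ∈ R) (hz : z ∈ Z) (hz1 : z ≠ 1) (hbr : ⁅a, r⁆ = z) :
    (∀ x ∈ R, ∃ i j k : Fin 3, x = a ^ (i : ℕ) * r ^ (j : ℕ) * z ^ (k : ℕ)) ∧
      ∀ i j k : Fin 3, a ^ (i : ℕ) * r ^ (j : ℕ) * z ^ (k : ℕ) ∈ Z → i = 0 ∧ j = 0 := by
  classical
  have ha3 := B.cube a (hR ha)
  have hr3 := B.cube r (hR hr)
  have hlin : ∀ i : ℕ, ⁅a ^ i, r⁆ = z ^ i := fun i => by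
    induction i with
    | zero => simp [commutatorElement_def]
    | succ n ih => rw [pow_succ, B.br_mul_left (hR (pow_mem ha n)) (hR ha) (hR hr), ih, hbr, ← pow_succ]
  have hlin' : ∀ j : ℕ, ⁅r ^ j, a⁆ = z⁻¹ ^ j := fun j => by
    induction j with
    | zero => simp [commutatorElement_def]
    | succ n ih =>
      rw [pow_succ, B.br_mul_left (hR (pow_mem hr n)) (hR hr) (hR ha), ih, ← commutatorElement_inv, hbr,
        ← pow_succ]
  have hzc : ∀ k : ℕ, ∀ u ∈ Q, ⁅z ^ k, u⁆ = 1 := fun k u hu =>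
    B.br_eq_one.2 (B.Z_comm hu (pow_mem hz k)).symm
  have hz3 := B.Z_cube hz
  have hzero : ∀ i j k : Fin 3, a ^ (i : ℕ) * r ^ (j : ℕ) * z ^ (k : ℕ) ∈ Z → i = 0 ∧ j = 0 := by
    intro i j k hm
    have hQ1 : a ^ (i : ℕ) * r ^ (j : ℕ) ∈ Q := mul_mem (hR (pow_mem ha _)) (hR (pow_mem hr _))
    have e1 : ⁅a ^ (i : ℕ) * r ^ (j : ℕ) * z ^ (k : ℕ), r⁆ = z ^ (i : ℕ) := by
      rw [B.br_mul_left hQ1 (B.Z_leQ (pow_mem hz _)) (hR hr), B.br_mul_left (hR (pow_mem ha _))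
        (hR (pow_mem hr _)) (hR hr), hlin, hzc _ _ (hR hr), B.br_eq_one.2 ((Commute.refl r).pow_left _),
        mul_one, mul_one]
    have e2 : ⁅a ^ (i : ℕ) * r ^ (j : ℕ) * z ^ (k : ℕ), a⁆ = z⁻¹ ^ (j : ℕ) := by
      rw [B.br_mul_left hQ1 (B.Z_leQ (pow_mem hz _)) (hR ha), B.br_mul_left (hR (pow_mem ha _))
        (hR (pow_mem hr _)) (hR ha), hlin', hzc _ _ (hR ha), B.br_eq_one.2 ((Commute.refl a).pow_left _),
        one_mul, mul_one]
    rw [B.br_eq_one.2 (B.Z_comm (hR hr) hm).symm] at e1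
    rw [B.br_eq_one.2 (B.Z_comm (hR ha) hm).symm, inv_pow, eq_comm, inv_eq_one] at e2
    exact ⟨pow_inj_three hz3 hz1 (by simpa using e1.symm), pow_inj_three hz3 hz1 (by simpa using e2)⟩
  refine ⟨?_, hzero⟩
  let f : Fin 3 × Fin 3 × Fin 3 → ↥R := fun p => ⟨a ^ (p.1 : ℕ) * r ^ (p.2.1 : ℕ) * z ^ (p.2.2 : ℕ),
    mul_mem (mul_mem (pow_mem ha _) (pow_mem hr _)) (pow_mem (hZR hz) _)⟩
  have hf : Function.Injective f := by
    rintro ⟨i, j, k⟩ ⟨i', j', k'⟩ e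
    have e' : a ^ (i : ℕ) * r ^ (j : ℕ) * z ^ (k : ℕ) = a ^ (i' : ℕ) * r ^ (j' : ℕ) * z ^ (k' : ℕ) :=
      congrArg Subtype.val e
    -- move to one side modulo the centre
    have hd : ∀ (i i' j j' : Fin 3), a ^ (i : ℕ) * r ^ (j : ℕ) ∈
        (Z : Set G) → i = 0 ∧ j = 0 := fun i _ j _ h => hzero i j 0 (by simpa using h)
    have h1 : ⁅a ^ (i : ℕ) * r ^ (j : ℕ) * z ^ (k : ℕ), r⁆ = z ^ (i : ℕ) := by
      rw [B.br_mul_left (mul_mem (hR (pow_mem ha _)) (hR (pow_mem hr _))) (B.Z_leQ (pow_mem hz _)) (hR hr),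
        B.br_mul_left (hR (pow_mem ha _)) (hR (pow_mem hr _)) (hR hr), hlin, hzc _ _ (hR hr),
        B.br_eq_one.2 ((Commute.refl r).pow_left _), mul_one, mul_one]
    have h1' : ⁅a ^ (i' : ℕ) * r ^ (j' : ℕ) * z ^ (k' : ℕ), r⁆ = z ^ (i' : ℕ) := by
      rw [B.br_mul_left (mul_mem (hR (pow_mem ha _)) (hR (pow_mem hr _))) (B.Z_leQ (pow_mem hz _)) (hR hr),
        B.br_mul_left (hR (pow_mem ha _)) (hR (pow_mem hr _)) (hR hr), hlin, hzc _ _ (hR hr),
        B.br_eq_one.2 ((Commute.refl r).pow_left _), mul_one, mul_one]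
    have hi : i = i' := pow_inj_three hz3 hz1 (by rw [← h1, e', h1'])
    subst hi
    have h2 : ∀ j'' k'' : Fin 3, ⁅a ^ (i : ℕ) * r ^ (j'' : ℕ) * z ^ (k'' : ℕ), a⁆ = z⁻¹ ^ (j'' : ℕ) :=
      fun j'' k'' => by
        rw [B.br_mul_left (mul_mem (hR (pow_mem ha _)) (hR (pow_mem hr _))) (B.Z_leQ (pow_mem hz _)) (hR ha),
          B.br_mul_left (hR (pow_mem ha _)) (hR (pow_mem hr _)) (hR ha), hlin', hzc _ _ (hR ha),
          B.br_eq_one.2 ((Commute.refl a).pow_left _), one_mul, mul_one]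
    have hj : j = j' := pow_inj_three (by rw [inv_pow, hz3, inv_one]) (inv_ne_one.2 hz1)
      (by rw [← h2 j k, e', h2 j' k'])
    subst hj
    exact Prod.ext rfl (Prod.ext rfl (pow_inj_three hz3 hz1 (mul_left_cancel e')))
  have hsurj : Function.Surjective f :=
    ((Nat.bijective_iff_injective_and_card f).2 ⟨hf, by
      rw [hcard, Nat.card_eq_fintype_card]; rfl⟩).2
  intro x hx
  obtain ⟨⟨i, j, k⟩, e⟩ := hsurj ⟨x, hx⟩
  exact ⟨i, j, k, (congrArg Subtype.val e).symm⟩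

/-- An element fixing `a` modulo `Z` in a factor it normalises shifts the partner by `⟨a⟩Z`. -/
theorem flag [Finite G] {R : Subgroup G} (hR : R ≤ Q) (hcard : Nat.card R = 27) (hZR : Z ≤ R)
    {a r z c : G} (ha : a ∈ R) (hr : r ∈ R) (hz : z ∈ Z) (hz1 : z ≠ 1) (hbr : ⁅a, r⁆ = z)
    (hc : c ∈ centralizer (Z : Set G)) (hcR : c * r * c⁻¹ ∈ R) (hca : a⁻¹ * (c * a * c⁻¹) ∈ Z) :
    ∃ i : Fin 3, ∃ w ∈ Z, c * r * c⁻¹ = a ^ (i : ℕ) * r * w := by
  obtain ⟨i, j, k, e⟩ := (B.factor_coords hR hcard hZR ha hr hz hz1 hbr).1 _ hcR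
  have ha' : c * a * c⁻¹ = a * (a⁻¹ * (c * a * c⁻¹)) := by group
  set w := a⁻¹ * (c * a * c⁻¹) with hw
  have e1 : ⁅c * a * c⁻¹, c * r * c⁻¹⁆ = z := by
    rw [show ⁅c * a * c⁻¹, c * r * c⁻¹⁆ = c * ⁅a, r⁆ * c⁻¹ by simp only [commutatorElement_def]; group,
      hbr, B.conj_Z hc hz]
  have e2 : ⁅c * r * c⁻¹, c * a * c⁻¹⁆ = z⁻¹ ^ (j : ℕ) := by
    rw [ha', ← commutatorElement_inv, B.br_mul_left (hR ha) (B.Z_leQ hca) (B.conj_memQ hc (hR hr)),
      B.br_eq_one.2 (B.Z_comm (B.conj_memQ hc (hR hr)) hca).symm, mul_one, commutatorElement_inv, e,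
      B.br_mul_left (mul_mem (hR (pow_mem ha _)) (hR (pow_mem hr _))) (B.Z_leQ (pow_mem hz _)) (hR ha),
      B.br_mul_left (hR (pow_mem ha _)) (hR (pow_mem hr _)) (hR ha),
      B.br_eq_one.2 ((Commute.refl a).pow_left _),
      B.br_eq_one.2 (B.Z_comm (hR ha) (pow_mem hz (k : ℕ))).symm, one_mul, mul_one]
    have : ∀ n : ℕ, ⁅r ^ n, a⁆ = z⁻¹ ^ n := fun n => by
      induction n with
      | zero => simp [commutatorElement_def]
      | succ n ih =>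
        rw [pow_succ, B.br_mul_left (hR (pow_mem hr n)) (hR hr) (hR ha), ih, ← commutatorElement_inv, hbr,
          ← pow_succ]
    exact this _
  have hj : j = 1 := by
    refine pow_inj_three (by rw [inv_pow, B.Z_cube hz, inv_one]) (inv_ne_one.2 hz1) ?_
    rw [← e2, ← commutatorElement_inv, e1]
    simp
  subst hj
  exact ⟨i, z ^ (k : ℕ), pow_mem hz _, by rw [e]; simp⟩

/-- The elements of `C(Z)` trivial on `Q/Z` are those of `Q`. -/
theorem mem_Q_of_triv [Finite G] {g : G} (hg : g ∈ centralizer (Z : Set G))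
    (h : ∀ x ∈ Q, x⁻¹ * (g * x * g⁻¹) ∈ Z) : g ∈ Q := by
  classical
  have hne : ∃ z ∈ Z, z ≠ 1 := by
    by_contra hall
    push Not at hall
    have : Z = ⊥ := (eq_bot_iff_forall _).2 hall
    have h3 := B.Z_card
    rw [this] at h3
    simp at h3
  -- generators of `Q` modulo `Z`
  obtain ⟨z, hz, hz1⟩ := hne
  have hex : ∀ R : Subgroup G, R ≤ Q → Nat.card R = 27 → ∃ a ∈ R, a ∉ Z := by
    intro R _ hc
    by_contra hall
    push Not at hall
    have := Subgroup.card_le_of_le (show R ≤ Z from hall)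
    rw [hc, B.Z_card] at this
    omega
  obtain ⟨a, ha, haZ⟩ := hex Q1 B.le1 B.card1
  obtain ⟨b, hb, hbZ⟩ := hex Q2 B.le2 B.card2
  have hc12 : ∀ x ∈ Q1, ∀ y ∈ Q2, Commute x y := B.Q_comm
  obtain ⟨r, hr, har⟩ := B.exists_partner B.le1 hc12 B.Q_prod ha haZ hz
  obtain ⟨s, hs, hbs⟩ := B.exists_partner B.le2 (fun x hx y hy => (hc12 y hy x hx).symm)
    (by rw [sup_comm]; exact B.Q_prod) hb hbZ hz
  let gen : Fin 4 → G := ![a, r, b, s]
  have hgenQ : ∀ i, gen i ∈ Q := fun i => by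
    fin_cases i
    · exact B.le1 ha
    · exact B.le1 hr
    · exact B.le2 hb
    · exact B.le2 hs
  have hspan : ∀ c ∈ centralizer (Z : Set G), (∀ i, Commute c (gen i)) → c ∈ Z := by
    intro c hc hcg
    rw [← B.cent]
    refine mem_centralizer_iff.2 fun x hx => ?_
    have hle : Q ≤ centralizer ({c} : Set G) := by
      rw [← B.Q_prod]
      have hcz : ∀ k : ℕ, z ^ k ∈ centralizer ({c} : Set G) := fun k =>
        mem_centralizer_singleton_iff.2 (B.fix_Z hc (pow_mem hz k)).symm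
      refine sup_le ?_ ?_
      · intro x hx
        obtain ⟨i, j, k, rfl⟩ := (B.factor_coords B.le1 B.card1 B.Z1 ha hr hz hz1 har).1 x hx
        exact mul_mem (mul_mem (pow_mem (mem_centralizer_singleton_iff.2 (hcg 0).eq.symm) _)
          (pow_mem (mem_centralizer_singleton_iff.2 (hcg 1).eq.symm) _)) (hcz _)
      · intro x hx
        obtain ⟨i, j, k, rfl⟩ := (B.factor_coords B.le2 B.card2 B.Z2 hb hs hz hz1 hbs).1 x hx
        exact mul_mem (mul_mem (pow_mem (mem_centralizer_singleton_iff.2 (hcg 2).eq.symm) _)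
          (pow_mem (mem_centralizer_singleton_iff.2 (hcg 3).eq.symm) _)) (hcz _)
    exact mem_centralizer_singleton_iff.1 (hle hx)
  let sh : ↥Q → (Fin 4 → ↥Z) := fun q i => ⟨⁅(gen i)⁻¹, (q : G)⁆, B.br_mem (inv_mem (hgenQ i)) q.2⟩
  let rep : (↥Q ⧸ Z.subgroupOf Q) → ↥Q := Quotient.out
  have hinj : Function.Injective fun p => sh (rep p) := by
    intro p p' e
    rw [← Quotient.out_eq p, ← Quotient.out_eq p']
    refine QuotientGroup.eq.2 (mem_subgroupOf.2 (hspan _ (B.Q_le (SetLike.coe_mem _)) fun i => ?_))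
    have ei : ⁅(gen i)⁻¹, (rep p : G)⁆ = ⁅(gen i)⁻¹, (rep p' : G)⁆ := congrArg Subtype.val (congrFun e i)
    have eq1 : (rep p : G) * gen i * (rep p : G)⁻¹ = (rep p' : G) * gen i * (rep p' : G)⁻¹ := by
      have := congrArg (gen i * ·) ei
      simp only [commutatorElement_def] at this
      simpa [mul_assoc] using this
    show ((rep p)⁻¹ * rep p' : ↥Q).1 * gen i = gen i * ((rep p)⁻¹ * rep p' : ↥Q).1
    have : ((rep p)⁻¹ * rep p' : ↥Q).1 = (rep p : G)⁻¹ * (rep p' : G) := rfl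
    rw [this]
    calc (rep p : G)⁻¹ * (rep p' : G) * gen i
        = (rep p : G)⁻¹ * ((rep p' : G) * gen i * (rep p' : G)⁻¹) * (rep p' : G) := by group
      _ = (rep p : G)⁻¹ * ((rep p : G) * gen i * (rep p : G)⁻¹) * (rep p' : G) := by rw [eq1]
      _ = _ := by group
  have hidx : Nat.card (↥Q ⧸ Z.subgroupOf Q) = 81 := by
    have := card_eq_card_quotient_mul_card_subgroup (Z.subgroupOf Q)
    rw [Nat.card_congr (subgroupOfEquivOfLe B.Z_leQ).toEquiv, B.Q_card, B.Z_card] at this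
    omega
  have hsur := ((Nat.bijective_iff_injective_and_card _).2 ⟨hinj, by
    rw [hidx, Nat.card_fun, B.Z_card]; simp⟩).2
  obtain ⟨p, hp⟩ := hsur fun i => ⟨(gen i)⁻¹ * (g * gen i * g⁻¹), h _ (hgenQ i)⟩
  set q : G := (rep p : G) with hq
  have hqg : q⁻¹ * g ∈ Z := hspan _ (mul_mem (inv_mem (B.Q_le (rep p).2)) hg) fun i => by
    have ei : ⁅(gen i)⁻¹, q⁆ = (gen i)⁻¹ * (g * gen i * g⁻¹) := congrArg Subtype.val (congrFun hp i)
    have eq1 : q * gen i * q⁻¹ = g * gen i * g⁻¹ := by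
      have := congrArg (gen i * ·) ei
      simp only [commutatorElement_def] at this
      simpa [mul_assoc] using this
    show q⁻¹ * g * gen i = gen i * (q⁻¹ * g)
    calc q⁻¹ * g * gen i = q⁻¹ * (g * gen i * g⁻¹) * g := by group
      _ = q⁻¹ * (q * gen i * q⁻¹) * g := by rw [eq1]
      _ = _ := by group
  have := mul_mem (rep p).2 (B.Z_leQ hqg)
  rwa [← hq, mul_inv_cancel_left] at this

end Base

end Cfsg.Agent.FFourLocal
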