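import Cfsg.Agent.Lib.FFourLocal.Cent.SLMap
import Cfsg.Agent.Lib.SpThreeCent.Setup
import Cfsg.Agent.Lib.SpThreeCent.Main

/-!
# The centralizer of `a` modulo `⟨a⟩`: a 3-element with centralizer `3^(1+2) : SL₂(3)`

With `E / ⟨a⟩` for `J` this meets the setting of `Lib/SpThreeCent`, with both flags true.
-/

set_option autoImplicit false
set_option linter.unusedSectionVars false
set_option linter.style.haveILetI false

namespace Cfsg.Agent.FFourLocal

open Subgroup
open scoped commutatorElement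
open Cfsg.Agent.SpThreeCent (CentData JData Loc)
open Cfsg.Agent.PSpAmalgam (SL3)

universe u

variable {G : Type u} [Group G]

/-- `⟨a⟩` inside its centralizer. -/
abbrev cK (a : G) : Subgroup ↥(centralizer ({a} : Set G)) :=
  (zpowers a).subgroupOf (centralizer ({a} : Set G))

instance cK_normal (a : G) : (cK a).Normal :=
  ⟨fun x hx g => by
    rw [mem_subgroupOf] at hx ⊢
    obtain ⟨k, hk⟩ := mem_zpowers_iff.1 hx
    refine mem_zpowers_iff.2 ⟨k, ?_⟩
    push_cast
    rw [← hk, (Commute.zpow_right (mem_centralizer_singleton_iff.1 g.2) k).eq, mul_inv_cancel_right]⟩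

/-- The quotient of the centralizer of `a` by `⟨a⟩`. -/
abbrev Xq (a : G) : Type u := ↥(centralizer ({a} : Set G)) ⧸ cK a

/-- The class of an element commuting with `a`. -/
def cls' (a g : G) (h : g * a = a * g) : Xq a :=
  QuotientGroup.mk' (cK a) ⟨g, mem_centralizer_singleton_iff.2 h⟩

/-- The image of a subgroup. -/
def im (a : G) (H : Subgroup G) : Subgroup (Xq a) :=
  (H.subgroupOf (centralizer ({a} : Set G))).map (QuotientGroup.mk' (cK a))

theorem mk_eq_iff {a : G} {u v : ↥(centralizer ({a} : Set G))} :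
    QuotientGroup.mk' (cK a) u = QuotientGroup.mk' (cK a) v ↔ (u : G)⁻¹ * v ∈ zpowers a := by
  rw [QuotientGroup.mk'_apply, QuotientGroup.mk'_apply, QuotientGroup.eq, mem_subgroupOf]
  rfl

theorem mk_eq_one_iff {a : G} {u : ↥(centralizer ({a} : Set G))} :
    QuotientGroup.mk' (cK a) u = 1 ↔ (u : G) ∈ zpowers a := by
  rw [QuotientGroup.mk'_apply, QuotientGroup.eq_one_iff, mem_subgroupOf]

theorem mem_im {a : G} {H : Subgroup G} (ha : a ∈ H) {u : ↥(centralizer ({a} : Set G))} :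
    QuotientGroup.mk' (cK a) u ∈ im a H ↔ (u : G) ∈ H := by
  constructor
  · rintro ⟨v, hv, e⟩
    have h := mk_eq_iff.1 e
    have := mul_mem (mem_subgroupOf.1 hv) (zpowers_le.2 ha h)
    rwa [mul_inv_cancel_left] at this
  · exact fun h => ⟨u, mem_subgroupOf.2 h, rfl⟩

theorem card_im {a : G} [Finite G] {H : Subgroup G} (hle : H ≤ centralizer ({a} : Set G)) (ha : a ∈ H) :
    Nat.card ↥(im a H) * orderOf a = Nat.card H := by
  set f := (QuotientGroup.mk' (cK a)).comp (Subgroup.inclusion hle) with hf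
  have hr : f.range = im a H := by
    ext x
    constructor
    · rintro ⟨⟨u, hu⟩, rfl⟩
      exact ⟨⟨u, hle hu⟩, hu, rfl⟩
    · rintro ⟨u, hu, rfl⟩
      exact ⟨⟨(u : G), hu⟩, rfl⟩
  have hk : f.ker = (zpowers a).subgroupOf H := by
    ext u
    rw [MonoidHom.mem_ker, hf, MonoidHom.comp_apply, mk_eq_one_iff, mem_subgroupOf]
    rfl
  have h := f.ker.card_mul_index
  rw [Subgroup.index_ker, hr, hk, Nat.card_congr (subgroupOfEquivOfLe (zpowers_le.2 ha)).toEquiv,
    Nat.card_zpowers] at h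
  rw [mul_comm]
  exact h

variable {Z Q Q1 Q2 L1 L2 E : Subgroup G} {t1 t2 z y a b : G}

namespace Local

variable [Finite G] (D : Local Z Q Q1 Q2 L1 L2 E t1 t2 z y a b)
include D

theorem a_E' : a ∈ E := D.E_eq.ge (mem_sup_left (mem_sup_left (mem_sup_right (mem_zpowers a))))

theorem b_E' : b ∈ E := D.E_eq.ge (mem_sup_left (mem_sup_right (mem_zpowers b)))

theorem y_E' : y ∈ E := D.E_eq.ge (mem_sup_right (mem_zpowers y))

theorem E_le_centA : E ≤ centralizer ({a} : Set G) := fun u hu =>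
  mem_centralizer_singleton_iff.2 (D.E_comm u hu a D.a_E')

theorem cent_Q2 {q : G} (hq : q ∈ Q) : q * a = a * q ↔ q ∈ zpowers a ⊔ Q2 := by
  constructor
  · intro hqa
    obtain ⟨r, hr, har⟩ := D.base.exists_partner D.base.le1 (fun u hu v hv => D.base.Q_comm u hu v hv)
      D.base.Q_prod D.a_mem D.a_not D.z_mem
    obtain ⟨u, hu, v, hv, rfl⟩ := D.base.mem_Q_split hq
    have hua : Commute u a := by
      have h1 : Commute (u * v) a := hqa
      have h2 : Commute v⁻¹ a := (show Commute a v from D.base.Q_comm a D.a_mem v hv).symm.inv_left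
      simpa using h1.mul_left h2
    obtain ⟨i, j, k, rfl⟩ :=
      (D.base.factor_coords D.base.le1 D.base.card1 D.base.Z1 D.a_mem hr D.z_mem D.z_ne har).1 u hu
    have hrj : Commute (r ^ (j : ℕ)) a := by
      have h1 : Commute (a ^ (i : ℕ))⁻¹ a := ((Commute.refl a).pow_left _).inv_left
      have h2 : Commute (z ^ (k : ℕ))⁻¹ a := ((show Commute z a from D.za).pow_left _).inv_left
      have := (h1.mul_left hua).mul_left h2
      simpa [mul_assoc] using this
    have hj : j = 0 := by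
      by_contra hj
      have := hrj.pow_left (j : ℕ)
      rw [← pow_mul, pow_mod_three (D.base.cube r (D.base.le1 hr)),
        (show ∀ n : Fin 3, n ≠ 0 → (n : ℕ) * (n : ℕ) % 3 = 1 by decide) j hj, pow_one] at this
      rw [D.base.br_eq_one.2 this.symm] at har
      exact D.z_ne har.symm
    subst hj
    rw [Fin.val_zero, pow_zero, mul_one, mul_assoc]
    exact mul_mem (mem_sup_left (pow_mem (mem_zpowers a) _))
      (mem_sup_right (mul_mem (D.base.Z2 (pow_mem D.z_mem _)) hv))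
  · intro h
    have : zpowers a ⊔ Q2 ≤ centralizer ({a} : Set G) :=
      sup_le (zpowers_le.2 (mem_centralizer_singleton_iff.2 rfl))
        fun v hv => mem_centralizer_singleton_iff.2 (D.base.Q_comm a D.a_mem v hv).symm
    exact mem_centralizer_singleton_iff.1 (this h)

theorem aQ2_le : zpowers a ⊔ Q2 ≤ Q := sup_le (zpowers_le.2 D.a_Q) D.base.le2

theorem card_aQ2 : Nat.card ↥(zpowers a ⊔ Q2) = 81 := by
  have hb : zpowers a ⊓ Q2 = ⊥ := by
    refine (eq_bot_iff_forall _).2 fun x hx => ?_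
    obtain ⟨hxa, hx2⟩ := Subgroup.mem_inf.1 hx
    have hxZ := D.base.inf_factors (zpowers_le.2 D.a_mem hxa) hx2
    by_contra hne
    haveI : Fact (Nat.Prime 3) := ⟨Nat.prime_three⟩
    have he : zpowers x = zpowers a := eq_of_le_of_card_ge (zpowers_le.2 hxa) (by
      rw [Nat.card_zpowers, Nat.card_zpowers, orderOf_three D.a3 D.a_ne,
        orderOf_three (D.base.cube x (D.base.le2 hx2)) hne])
    exact D.a_not (zpowers_le.2 hxZ (he.ge (mem_zpowers a)))
  have h := card_prod_eq (A := zpowers a) (B := Q2) fun v hv => by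
    refine centralizer_le_normalizer _ (mem_centralizer_iff.2 fun w hw => ?_)
    exact D.base.Q_comm w (zpowers_le.2 D.a_mem hw) v hv
  rw [hb, Nat.card_zpowers, orderOf_three D.a3 D.a_ne, D.base.card2] at h
  simpa using h

/-- `z a^k` is conjugate to `a`, so no element of `C(a)` moves `z` to it. -/
theorem no_shift {g w : G} (hw : w ∈ zpowers a) (hgw : g * z * g⁻¹ = z * w) : w = 1 := by
  by_contra hne
  obtain ⟨r, hr, har⟩ := D.base.exists_partner D.base.le1 (fun u hu v hv => D.base.Q_comm u hu v hv)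
    D.base.Q_prod D.a_mem D.a_not D.z_mem
  have hw1 : z * w ∈ Q1 := mul_mem (D.base.Z1 D.z_mem) (zpowers_le.2 D.a_mem hw)
  have hwn : z * w ∉ Z := fun h => by
    have hwZ : w ∈ Z := by simpa using mul_mem (inv_mem D.z_mem) h
    haveI : Fact (Nat.Prime 3) := ⟨Nat.prime_three⟩
    have he : zpowers w = zpowers a := eq_of_le_of_card_ge (zpowers_le.2 hw) (by
      rw [Nat.card_zpowers, Nat.card_zpowers, orderOf_three D.a3 D.a_ne,
        orderOf_three (D.base.Z_cube hwZ) hne])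
    exact D.a_not (zpowers_le.2 hwZ (he.ge (mem_zpowers a)))
  obtain ⟨l, hl, v, hv, e⟩ := D.base.trans1 a D.a_mem D.a_not _ hw1 hwn
  obtain ⟨n, rfl⟩ : ∃ n : ℕ, z ^ n = v := by
    rw [← D.z_gen] at hv
    exact (mem_powers_iff_mem_zpowers.2 hv : v ∈ Submonoid.powers z)
  have hlC := D.base.L1_le hl
  have hstep : ∀ n : ℕ, ∃ h : G, h * a * h⁻¹ = a * z ^ n := by
    intro n
    induction n with
    | zero => exact ⟨1, by simp⟩
    | succ n ih =>
      obtain ⟨h, hh⟩ := ih
      -- `r⁻¹` shifts `a` by `z`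
      have e1 : r⁻¹ * a * r⁻¹⁻¹ = a * z := by
        have hrz : r * z = z * r := (D.base.Z_comm (D.base.le1 hr) D.z_mem).eq
        have h2 : a * r = z * (r * a) := by rw [← har, commutatorElement_def]; group
        have h3 : a * r = r * (a * z) := by
          rw [h2, ← mul_assoc, ← hrz, mul_assoc, (show Commute z a from D.za).eq]
        rw [inv_inv, mul_assoc, h3, inv_mul_cancel_left]
      refine ⟨r⁻¹ * h, ?_⟩
      calc r⁻¹ * h * a * (r⁻¹ * h)⁻¹ = r⁻¹ * (h * a * h⁻¹) * r⁻¹⁻¹ := by group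
        _ = r⁻¹ * a * r⁻¹⁻¹ * (r⁻¹ * z ^ n * r⁻¹⁻¹) := by rw [hh]; group
        _ = a * z ^ (n + 1) := by
          rw [e1, D.base.conj_Z (D.base.Q_le (inv_mem (D.base.le1 hr))) (pow_mem D.z_mem n), pow_succ',
            mul_assoc]
  obtain ⟨h, hh⟩ := hstep n
  have e2 : l * h * a * (l * h)⁻¹ = z * w := by
    rw [show l * h * a * (l * h)⁻¹ = l * (h * a * h⁻¹) * l⁻¹ by group, hh,
      show l * (a * z ^ n) * l⁻¹ = l * a * l⁻¹ * (l * z ^ n * l⁻¹) by group,
      D.base.conj_Z hlC (pow_mem D.z_mem n), e]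
  refine D.not_pt ((l * h)⁻¹ * g) ?_
  calc (l * h)⁻¹ * g * z * ((l * h)⁻¹ * g)⁻¹ = (l * h)⁻¹ * (g * z * g⁻¹) * (l * h) := by group
    _ = (l * h)⁻¹ * (l * h * a * (l * h)⁻¹) * (l * h) := by rw [hgw, e2]
    _ = a := by group

theorem z_centA : z * a = a * z := (show Commute z a from D.za).eq

/-- An element of `C(a)` centralising `z` modulo `⟨a⟩` centralises it. -/
theorem mem_cent_z {g : G} (hg : g * a = a * g) (h : z⁻¹ * (g * z * g⁻¹) ∈ zpowers a) :
    g * z = z * g := by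
  have h1 := D.no_shift h (g := g) (by group)
  have h2 : g * z * g⁻¹ = z := by
    calc g * z * g⁻¹ = z * (z⁻¹ * (g * z * g⁻¹)) := by group
      _ = z := by rw [h1, mul_one]
  exact mul_inv_eq_iff_eq_mul.1 h2

theorem centZA_cls (u : ↥(centralizer ({a} : Set G))) :
    QuotientGroup.mk' (cK a) u ∈ centralizer ({cls' a z D.z_centA} : Set (Xq a)) ↔
      (u : G) ∈ centralizer (Z : Set G) := by
  rw [mem_centralizer_singleton_iff, D.mem_centZ, cls']
  constructor
  · intro h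
    refine D.mem_cent_z (mem_centralizer_singleton_iff.1 u.2) ?_
    have h' := mk_eq_iff.1 ((map_mul (QuotientGroup.mk' (cK a)) ⟨z, _⟩ u).trans (h.symm.trans (map_mul _ _ _).symm))
    push_cast at h'
    obtain ⟨k, hk⟩ := mem_zpowers_iff.1 h'
    refine mem_zpowers_iff.2 ⟨k, ?_⟩
    have hc : Commute (u : G) (a ^ k) := Commute.zpow_right (mem_centralizer_singleton_iff.1 u.2) k
    calc a ^ k = (u : G) * a ^ k * (u : G)⁻¹ := by rw [hc.eq, mul_inv_cancel_right]
      _ = _ := by rw [hk]; group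
  · intro h
    rw [← map_mul, ← map_mul]
    congr 1
    exact Subtype.ext h

theorem card_centZA : Nat.card ↥(centralizer (Z : Set G) ⊓ centralizer ({a} : Set G)) = 1944 := by
  obtain ⟨s, hs, hbs⟩ := D.base.exists_partner D.base.le2 (fun u hu v hv => (D.base.Q_comm v hv u hu).symm)
    (by rw [sup_comm]; exact D.base.Q_prod) D.b_mem D.b_not D.z_mem
  have hk : (D.sl hs hbs).ker =
      (zpowers a ⊔ Q2).subgroupOf (centralizer (Z : Set G) ⊓ centralizer ({a} : Set G)) := by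
    ext c
    rw [MonoidHom.mem_ker, D.sl_eq_one hs hbs, mem_subgroupOf]
    exact ⟨fun h => (D.cent_Q2 h).1 (mem_centralizer_singleton_iff.1 c.2.2), fun h => D.aQ2_le h⟩
  have hle : zpowers a ⊔ Q2 ≤ centralizer (Z : Set G) ⊓ centralizer ({a} : Set G) := le_inf
    (D.aQ2_le.trans D.base.Q_le)
    fun x hx => mem_centralizer_singleton_iff.2 ((D.cent_Q2 (D.aQ2_le hx)).2 hx)
  have h := (D.sl hs hbs).ker.card_mul_index
  rw [Subgroup.index_ker, MonoidHom.range_eq_top.2 (D.sl_surjective hs hbs), card_top, hk,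
    Nat.card_congr (subgroupOfEquivOfLe hle).toEquiv, D.card_aQ2, PSpAmalgam.card_sl3] at h
  rw [← h]

/-- The centralizer of `z` in `C(a) / ⟨a⟩`. -/
theorem centData : CentData (cls' a z D.z_centA) (im a (zpowers a ⊔ Q2)) := by
  obtain ⟨s, hs, hbs⟩ := D.base.exists_partner D.base.le2 (fun u hu v hv => (D.base.Q_comm v hv u hu).symm)
    (by rw [sup_comm]; exact D.base.Q_prod) D.b_mem D.b_not D.z_mem
  set H := centralizer (Z : Set G) ⊓ centralizer ({a} : Set G) with hH
  set q := QuotientGroup.mk' (cK a) with hq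
  set zb := cls' a z D.z_centA with hzb
  have haR : a ∈ zpowers a ⊔ Q2 := mem_sup_left (mem_zpowers a)
  have hRC : zpowers a ⊔ Q2 ≤ centralizer ({a} : Set G) := fun x hx =>
    mem_centralizer_singleton_iff.2 ((D.cent_Q2 (D.aQ2_le hx)).2 hx)
  have haH : a ∈ H := ⟨D.base.Q_le D.a_Q, mem_centralizer_singleton_iff.2 rfl⟩
  have hC : centralizer ({zb} : Set (Xq a)) = im a H := by
    ext x
    obtain ⟨u, rfl⟩ := QuotientGroup.mk'_surjective (cK a) x
    rw [D.centZA_cls, mem_im haH]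
    exact ⟨fun h => ⟨h, u.2⟩, fun h => h.1⟩
  have ho : orderOf a = 3 := orderOf_three D.a3 D.a_ne
  have hmul : ∀ g ∈ H, ∀ x ∈ zpowers a ⊔ Q2, g * x * g⁻¹ ∈ zpowers a ⊔ Q2 := fun g hg x hx => by
    refine (D.cent_Q2 (D.base.conj_memQ hg.1 (D.aQ2_le hx))).1 ?_
    have h1 : Commute g a := mem_centralizer_singleton_iff.1 hg.2
    exact ((h1.mul_left ((D.cent_Q2 (D.aQ2_le hx)).2 hx)).mul_left h1.inv_left).eq
  haveI : Fact (Nat.Prime 3) := ⟨Nat.prime_three⟩
  -- the components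
  refine
    { order := ?_
      card := ?_
      card_R := ?_
      le := ?_
      norm := ?_
      mem := ?_
      exp := ?_
      center := ?_
      comm := ?_
      nat := ?_
      quot := ?_ }
  · refine orderOf_three ?_ fun h => ?_
    · rw [hzb, cls', ← map_pow]
      exact mk_eq_one_iff.2 (by push_cast; rw [D.z3]; exact one_mem _)
    · have h' : z ∈ zpowers a := mk_eq_one_iff.1 h
      have he : zpowers z = zpowers a := eq_of_le_of_card_ge (zpowers_le.2 h') (by
        rw [Nat.card_zpowers, Nat.card_zpowers, ho, orderOf_three D.z3 D.z_ne])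
      exact D.a_not (D.z_gen ▸ he.ge (mem_zpowers a))
  · have h := card_im (a := a) (inf_le_right : H ≤ _) haH
    rw [D.card_centZA, ho, ← hC] at h
    omega
  · have h := card_im (a := a) hRC haR
    rw [D.card_aQ2, ho] at h
    omega
  · rw [hC]
    exact map_mono fun u hu => mem_subgroupOf.2 ⟨D.base.Q_le (D.aQ2_le hu), u.2⟩
  · rw [hC]
    rintro _ ⟨g, hg, rfl⟩
    refine Subgroup.mem_normalizer_fintype fun x hx => ?_
    obtain ⟨u, hu, rfl⟩ := hx
    rw [← map_inv, ← map_mul, ← map_mul]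
    exact ⟨_, mem_subgroupOf.2 (by push_cast; exact hmul _ (mem_subgroupOf.1 hg) _ (mem_subgroupOf.1 hu)), rfl⟩
  · exact ⟨⟨z, mem_centralizer_singleton_iff.2 D.z_centA⟩,
      mem_subgroupOf.2 (mem_sup_right (D.base.Z2 D.z_mem)), rfl⟩
  · rintro _ ⟨u, hu, rfl⟩
    rw [← map_pow]
    exact mk_eq_one_iff.2 (by push_cast; rw [D.base.cube (u : G) (D.aQ2_le hu)]; exact one_mem _)
  · rintro _ ⟨u, hu, rfl⟩ hc
    -- the commutators with `Q₂` vanish
    have huQ := D.aQ2_le hu
    have hua : (u : G) * a = a * u := mem_centralizer_singleton_iff.1 u.2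
    have h2 : ∀ v ∈ Q2, Commute v (u : G) := fun v hv => by
      have hvC : v ∈ centralizer ({a} : Set G) := hRC (mem_sup_right hv)
      have e := hc (q ⟨v, hvC⟩) ⟨⟨v, hvC⟩, mem_subgroupOf.2 (mem_sup_right hv), rfl⟩
      rw [← map_mul, ← map_mul] at e
      have e' := mk_eq_iff.1 e
      push_cast at e'
      have hb : ((u : G) * v)⁻¹ * (v * u) ∈ Z := by
        rw [show ((u : G) * v)⁻¹ * (v * u) = ⁅v⁻¹, (u : G)⁻¹⁆ by rw [commutatorElement_def]; group]
        exact D.base.br_mem (inv_mem (D.base.le2 hv)) (inv_mem huQ)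
      have h1 : ((u : G) * v)⁻¹ * (v * u) = 1 := by
        by_contra hne
        have he := eq_of_le_of_card_ge (zpowers_le.2 e') (by
          rw [Nat.card_zpowers, Nat.card_zpowers, ho, orderOf_three (D.base.Z_cube hb) hne])
        exact D.a_not (zpowers_le.2 hb (he.ge (mem_zpowers a)))
      exact (inv_mul_eq_one.1 h1).symm
    -- split off the part in `⟨a⟩`
    have hn : Q2 ≤ normalizer ((zpowers a : Subgroup G) : Set G) := fun v hv =>
      centralizer_le_normalizer _ (mem_centralizer_iff.2 fun w hw => D.base.Q_comm w (zpowers_le.2 D.a_mem hw) v hv)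
    have hmem := mem_subgroupOf.1 hu
    rw [← SetLike.mem_coe, coe_mul_of_right_le_normalizer_left (zpowers a) Q2 hn] at hmem
    obtain ⟨w, hw, x, hx, e⟩ := hmem
    have hxZ : x ∈ Z := by
      refine D.base.mem_Z_of_comm (D.base.le2 hx) fun t ht => ?_
      obtain ⟨t1', ht1, t2', ht2, rfl⟩ := D.base.mem_Q_split ht
      refine Commute.mul_left (D.base.Q_comm t1' ht1 x hx) ?_
      have h3 : Commute t2' (w⁻¹ * (u : G)) :=
        (show Commute w t2' from D.base.Q_comm w (zpowers_le.2 D.a_mem hw) t2' ht2).symm.inv_right.mul_right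
          (h2 t2' ht2)
      rwa [← e, inv_mul_cancel_left] at h3
    obtain ⟨n, hn'⟩ := mem_zpowers_iff.1 (D.z_gen.symm ▸ hxZ : x ∈ zpowers z)
    refine mem_zpowers_iff.2 ⟨n, ?_⟩
    rw [hzb, cls', ← map_zpow]
    refine mk_eq_iff.2 ?_
    push_cast
    rw [hn', ← e]
    obtain ⟨k, hk⟩ := mem_zpowers_iff.1 hw
    refine mem_zpowers_iff.2 ⟨k, ?_⟩
    rw [hk]
    show w = x⁻¹ * (w * x)
    rw [D.base.Q_comm w (zpowers_le.2 D.a_mem hw) x hx, inv_mul_cancel_left]
  · rintro _ ⟨u, hu, rfl⟩ _ ⟨v, hv, rfl⟩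
    simp only [← map_inv, ← map_mul]
    have hb := D.base.br_mem (D.aQ2_le hu) (D.aQ2_le hv)
    rw [commutatorElement_def, ← D.z_gen] at hb
    obtain ⟨n, hn⟩ := mem_zpowers_iff.1 hb
    refine mem_zpowers_iff.2 ⟨n, ?_⟩
    rw [hzb, cls', ← map_zpow]
    congr 1
    exact Subtype.ext (by push_cast; exact hn)
  · intro g hg hact
    rw [hC] at hg
    obtain ⟨u, hu, rfl⟩ := hg
    have huH := mem_subgroupOf.1 hu
    refine ⟨u, mem_subgroupOf.2 ((D.cent_Q2 ?_).1 (mem_centralizer_singleton_iff.1 u.2)), rfl⟩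
    refine (D.sl_eq_one hs hbs ⟨u, huH⟩).1 (Subtype.ext ((D.mat_eq_one hs hbs huH.1
      (D.conj_Q2 hs hbs huH D.b_mem) (D.conj_Q2 hs hbs huH hs)).2 ?_))
    have key : ∀ x ∈ Q2, x⁻¹ * ((u : G) * x * (u : G)⁻¹) ∈ Z := by
      intro x hx
      have hxC := hRC (mem_sup_right hx)
      have h := hact (q ⟨x, hxC⟩) ⟨⟨x, hxC⟩, mem_subgroupOf.2 (mem_sup_right hx), rfl⟩
      simp only [← map_inv, ← map_mul] at h
      obtain ⟨n, hn⟩ := mem_zpowers_iff.1 h
      rw [hzb, cls', ← map_zpow] at hn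
      have hn' := mk_eq_iff.1 hn
      push_cast at hn'
      set c := (u : G) * x * (u : G)⁻¹ * x⁻¹ with hc
      have hc2 : c ∈ Q2 := mul_mem (D.conj_Q2 hs hbs huH hx) (inv_mem hx)
      have hw1 : (z ^ n)⁻¹ * c ∈ Q1 := zpowers_le.2 D.a_mem hn'
      have hw2 : (z ^ n)⁻¹ * c ∈ Q2 :=
        Q2.mul_mem (Q2.inv_mem (Q2.zpow_mem (D.base.Z2 D.z_mem) n)) hc2
      have hcZ : c ∈ Z := by
        have := Z.mul_mem (Z.zpow_mem D.z_mem n) (D.base.inf_factors hw1 hw2)
        rwa [mul_inv_cancel_left] at this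
      rw [show x⁻¹ * ((u : G) * x * (u : G)⁻¹) = x⁻¹ * c * x⁻¹⁻¹ by rw [hc]; group,
        D.base.conj_Z (D.base.Q_le (inv_mem (D.base.le2 hx))) hcZ]
      exact hcZ
    exact ⟨key b D.b_mem, key s hs⟩
  · let ρ : ↥H →* ↥(centralizer ({zb} : Set (Xq a))) :=
      (q.comp (Subgroup.inclusion (inf_le_right : H ≤ _))).codRestrict _ fun h => by
        rw [hC]; exact ⟨_, mem_subgroupOf.2 h.2, rfl⟩
    have hρs : Function.Surjective ρ := fun x => by
      obtain ⟨u, hu, e⟩ := hC.le x.2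
      exact ⟨⟨u, mem_subgroupOf.1 hu⟩, Subtype.ext e⟩
    have hker : ρ.ker ≤ (D.sl hs hbs).ker := fun c hc => by
      have h : (c : G) ∈ zpowers a :=
        mk_eq_one_iff.1 (congrArg Subtype.val (show ρ c = 1 from hc))
      exact (D.sl_eq_one hs hbs c).2 (zpowers_le.2 D.a_Q h)
    refine ⟨ρ.liftOfSurjective hρs ⟨D.sl hs hbs, hker⟩, fun v => ?_, fun x => ?_⟩
    · obtain ⟨c, rfl⟩ := D.sl_surjective hs hbs v
      exact ⟨ρ c, MonoidHom.liftOfRightInverse_comp_apply _ _ _ _ c⟩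
    · obtain ⟨c, rfl⟩ := hρs x
      rw [MonoidHom.liftOfRightInverse_comp_apply, D.sl_eq_one hs hbs]
      show _ ↔ q (Subgroup.inclusion (inf_le_right : H ≤ _) c) ∈ im a (zpowers a ⊔ Q2)
      rw [mem_im haR]
      exact ⟨fun h => (D.cent_Q2 h).1 (mem_centralizer_singleton_iff.1 c.2.2), fun h => D.aQ2_le h⟩

theorem jData : JData (cls' a z D.z_centA) (im a (zpowers a ⊔ Q2)) (im a E) where
  le := by
    rintro _ ⟨u, hu, rfl⟩
    exact (D.centZA_cls u).2 (D.mem_centZ.2 (D.E_comm _ hu z D.z_E))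
  comm := by
    rintro _ ⟨u, hu, rfl⟩ _ ⟨v, hv, rfl⟩
    rw [← map_mul, ← map_mul]
    congr 1
    exact Subtype.ext (D.E_comm _ hu _ hv)
  exp := by
    rintro _ ⟨u, hu, rfl⟩
    rw [← map_pow]
    exact mk_eq_one_iff.2 (by push_cast; rw [D.E_exp (u : G) hu]; exact one_mem _)
  card := by
    have h := card_im (a := a) D.E_le_centA D.a_E'
    rw [D.E_card, orderOf_three D.a3 D.a_ne] at h
    omega

theorem sig_im (K : Subgroup (Xq a)) (hK : (Nat.card K).Coprime 3)
    (hn : im a E ≤ normalizer (K : Set (Xq a))) : K = ⊥ := by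
  haveI : Fact (Nat.Prime 3) := ⟨Nat.prime_three⟩
  set q := QuotientGroup.mk' (cK a) with hq
  have ho : orderOf a = 3 := orderOf_three D.a3 D.a_ne
  set P := K.comap q with hP
  have hCP : cK a ≤ P := fun x hx => by
    rw [hP, mem_comap, hq, QuotientGroup.mk'_apply, (QuotientGroup.eq_one_iff x).2 hx]
    exact one_mem K
  have hcK3 : Nat.card ↥(cK a) = 3 := by
    rw [Nat.card_congr (subgroupOfEquivOfLe (zpowers_le.2 (mem_centralizer_singleton_iff.2 rfl))).toEquiv,
      Nat.card_zpowers, ho]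
  have hN : Nat.card ↥((cK a).subgroupOf P) = 3 := by
    rw [Nat.card_congr (subgroupOfEquivOfLe hCP).toEquiv, hcK3]
  have hidx : ((cK a).subgroupOf P).index = Nat.card K := by
    have hr : (q.comp P.subtype).range = K := by
      ext x
      constructor
      · rintro ⟨⟨u, hu⟩, rfl⟩
        exact hu
      · intro hx
        obtain ⟨u, rfl⟩ := QuotientGroup.mk'_surjective (cK a) x
        exact ⟨⟨u, hx⟩, rfl⟩
    have hk : (q.comp P.subtype).ker = (cK a).subgroupOf P := by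
      ext u
      rw [MonoidHom.mem_ker, MonoidHom.comp_apply, hq, QuotientGroup.mk'_apply, QuotientGroup.eq_one_iff,
        mem_subgroupOf]
      rfl
    rw [← hk, index_ker, hr]
  obtain ⟨S, hS⟩ := exists_right_complement'_of_coprime (N := (cK a).subgroupOf P) (by
    rw [hN, hidx]
    exact hK.symm)
  have hScard : Nat.card S = Nat.card K := by
    have h1 := hS.card_mul
    have h2 := ((cK a).subgroupOf P).card_mul_index
    rw [hN, hidx] at h2
    rw [hN, ← h2] at h1
    exact Nat.eq_of_mul_eq_mul_left (by norm_num) h1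
  have hw3 : ∀ w : ↥P, w ∈ (cK a).subgroupOf P → w ^ 3 = 1 := fun w hw => by
    rw [← hN]
    exact congrArg Subtype.val (pow_card_eq_one' (x := (⟨w, hw⟩ : ↥((cK a).subgroupOf P))))
  -- the complement consists of the elements of order prime to three
  have hSiff : ∀ u : ↥P, u ∈ S ↔ u ^ Nat.card K = 1 := by
    intro u
    constructor
    · intro hu
      rw [← hScard]
      exact congrArg Subtype.val (pow_card_eq_one' (x := (⟨u, hu⟩ : ↥S)))
    · intro hu
      obtain ⟨⟨w, v⟩, e⟩ := hS.existsUnique u |>.exists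
      have hc : Commute (w : ↥P) v := by
        refine Subtype.ext (Subtype.ext ?_)
        obtain ⟨k, hk⟩ := mem_zpowers_iff.1 (mem_subgroupOf.1 (mem_subgroupOf.1 w.2))
        push_cast
        rw [← hk]
        exact ((Commute.zpow_right (mem_centralizer_singleton_iff.1 (v : ↥P).1.2) k).eq).symm
      have hvn : (v : ↥P) ^ Nat.card K = 1 := by
        rw [← hScard]
        exact congrArg Subtype.val (pow_card_eq_one' (x := v))
      have e' : (w : ↥P) * v = u := e
      have hwn : (w : ↥P) ^ Nat.card K = 1 := by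
        have := hu
        rwa [← e', hc.mul_pow, hvn, mul_one] at this
      have hw1 : (w : ↥P) = 1 := orderOf_eq_one_iff.1 (Nat.eq_one_of_dvd_coprimes hK
        (orderOf_dvd_of_pow_eq_one hwn) (orderOf_dvd_of_pow_eq_one (hw3 _ w.2)))
      rw [← e', hw1, one_mul]
      exact v.2
  set f : ↥P →* G := (centralizer ({a} : Set G)).subtype.comp P.subtype with hf
  have hfi : Function.Injective f := Subtype.val_injective.comp Subtype.val_injective
  have hbot : S.map f = ⊥ := by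
    refine D.sig _ (by rw [card_map_of_injective hfi, hScard]; exact hK) fun e he => ?_
    refine Subgroup.mem_normalizer_fintype fun x hx => ?_
    obtain ⟨v, hv, rfl⟩ := hx
    have hec := D.E_le_centA he
    have hmem : (⟨e, hec⟩ : ↥(centralizer ({a} : Set G))) * v.1 * (⟨e, hec⟩)⁻¹ ∈ P := by
      show q _ ∈ K
      rw [map_mul, map_mul, map_inv]
      exact (mem_normalizer_iff.1 (hn ⟨_, mem_subgroupOf.2 (show (⟨e, hec⟩ : ↥(centralizer ({a} : Set G))).1 ∈ E
        from he), rfl⟩) _).1 v.2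
    refine ⟨⟨_, hmem⟩, (hSiff _).2 ?_, rfl⟩
    refine hfi ?_
    rw [map_pow, map_one]
    show (e * f v * e⁻¹) ^ Nat.card K = 1
    rw [conj_pow, ← map_pow, (hSiff v).1 hv, map_one, mul_one, mul_inv_cancel]
  refine (eq_bot_iff_forall _).2 fun x hx => ?_
  obtain ⟨u, rfl⟩ := QuotientGroup.mk'_surjective (cK a) x
  obtain ⟨⟨w, v⟩, e⟩ := hS.existsUnique (⟨u, hx⟩ : ↥P) |>.exists
  have hv : (v : ↥P) = 1 := hfi (by
    rw [map_one]
    exact (eq_bot_iff_forall _).1 hbot _ ⟨v, v.2, rfl⟩)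
  have e' : (w : ↥P) * v = ⟨u, hx⟩ := e
  rw [hv, mul_one] at e'
  have := mem_subgroupOf.1 w.2
  rw [e'] at this
  exact (QuotientGroup.eq_one_iff _).2 this

theorem ci_real : ∃ g : Xq a, g * cls' a z D.z_centA * g⁻¹ = (cls' a z D.z_centA)⁻¹ := by
  obtain ⟨g, ga, gb, gy, gy'⟩ := D.swap
  set s := g * (t1 * t2) * g⁻¹ with hs
  have h1 : t1 * t2 * a * (t1 * t2)⁻¹ = a⁻¹ := by
    rw [show t1 * t2 * a * (t1 * t2)⁻¹ = t1 * (t2 * a * t2⁻¹) * t1⁻¹ by group, D.t2_a, mul_inv_cancel_right,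
      D.t1_a]
  have h2 : t1 * t2 * b * (t1 * t2)⁻¹ = b⁻¹ := by
    rw [show t1 * t2 * b * (t1 * t2)⁻¹ = t1 * (t2 * b * t2⁻¹) * t1⁻¹ by group, D.t2_b,
      show t1 * b⁻¹ * t1⁻¹ = (t1 * b * t1⁻¹)⁻¹ by group, D.t1_b, mul_inv_cancel_right]
  have h3 : t1 * t2 * y * (t1 * t2)⁻¹ = y := by
    rw [show t1 * t2 * y * (t1 * t2)⁻¹ = t1 * (t2 * y * t2⁻¹) * t1⁻¹ by group, D.y_t2, mul_inv_cancel_right,
      D.y_t1, mul_inv_cancel_right]
  have hsa : s * a * s⁻¹ = a := by
    conv_lhs => rw [← gy]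
    rw [hs, show g * (t1 * t2) * g⁻¹ * (g * y * g⁻¹) * (g * (t1 * t2) * g⁻¹)⁻¹ =
      g * (t1 * t2 * y * (t1 * t2)⁻¹) * g⁻¹ by group, h3, gy]
  have hsy : s * y * s⁻¹ = y⁻¹ := by
    conv_lhs => rw [← ga]
    rw [hs, show g * (t1 * t2) * g⁻¹ * (g * a * g⁻¹) * (g * (t1 * t2) * g⁻¹)⁻¹ =
      g * (t1 * t2 * a * (t1 * t2)⁻¹) * g⁻¹ by group, h1, ← ga]
    group
  have hsy' : s * (y⁻¹ * z) * s⁻¹ = (y⁻¹ * z)⁻¹ := by
    conv_lhs => rw [← gb]
    rw [hs, show g * (t1 * t2) * g⁻¹ * (g * b * g⁻¹) * (g * (t1 * t2) * g⁻¹)⁻¹ =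
      g * (t1 * t2 * b * (t1 * t2)⁻¹) * g⁻¹ by group, h2, ← gb]
    group
  have hsz : s * z * s⁻¹ = z⁻¹ := by
    rw [show s * z * s⁻¹ = (s * y * s⁻¹) * (s * (y⁻¹ * z) * s⁻¹) by group, hsy, hsy']
    rw [← mul_inv_rev, inv_inj, mul_assoc, ← (show Commute y z from D.yz).eq, inv_mul_cancel_left]
  refine ⟨cls' a s (mul_inv_eq_iff_eq_mul.1 hsa), ?_⟩
  rw [cls', cls', ← map_inv, ← map_inv, ← map_mul, ← map_mul]
  congr 1
  exact Subtype.ext hsz

end Local

end Cfsg.Agent.FFourLocal
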