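import Cfsg.Agent.Lib.FFourLocal.Cent.Action

/-!
# `C(Z) ∩ C(a)` acts on `Q₂ / Z` as `SL₂(3)` with kernel `C_Q(a)`
-/

set_option autoImplicit false
set_option linter.unusedSectionVars false
set_option linter.style.haveILetI false

namespace Cfsg.Agent.FFourLocal

open Subgroup
open scoped commutatorElement Matrix

universe u

variable {G : Type u} [Group G] {Z Q Q1 Q2 L1 L2 E : Subgroup G} {t1 t2 z y a b : G}

namespace Local

variable [Finite G] (D : Local Z Q Q1 Q2 L1 L2 E t1 t2 z y a b)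
include D

theorem lg_pow {w : G} (hw : w ∈ Z) (n : ℕ) : D.lg (w ^ n) = n * D.lg w := by
  induction n with
  | zero => rw [pow_zero, D.lg_one, Nat.cast_zero, zero_mul]
  | succ n ih => rw [pow_succ, D.lg_mul (pow_mem hw n) hw, ih, Nat.cast_succ, add_mul, one_mul]

theorem lg_inv {w : G} (hw : w ∈ Z) : D.lg w⁻¹ = -D.lg w := by
  have h := D.lg_mul hw (inv_mem hw)
  rw [mul_inv_cancel, D.lg_one] at h
  exact eq_neg_of_add_eq_zero_right h.symm

/-- The commutator form on `Q`. -/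
noncomputable def bf (u v : G) : ZMod 3 := D.lg ⁅u, v⁆

theorem bf_anti {u v : G} (hu : u ∈ Q) (hv : v ∈ Q) : D.bf v u = -D.bf u v := by
  unfold bf
  rw [← commutatorElement_inv, D.lg_inv (D.base.br_mem hu hv)]

theorem bf_left {u u' v : G} (hu : u ∈ Q) (hu' : u' ∈ Q) (hv : v ∈ Q) :
    D.bf (u * u') v = D.bf u v + D.bf u' v := by
  unfold bf
  rw [D.base.br_mul_left hu hu' hv, D.lg_mul (D.base.br_mem hu hv) (D.base.br_mem hu' hv)]

theorem bf_Z {u v : G} (hu : u ∈ Z) (hv : v ∈ Q) : D.bf u v = 0 := by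
  unfold bf
  rw [D.base.br_eq_one.2 (D.base.Z_comm hv hu).symm, D.lg_one]

theorem bf_self (u : G) : D.bf u u = 0 := by
  unfold bf
  rw [D.base.br_eq_one.2 (Commute.refl u), D.lg_one]

theorem bf_pow {u v : G} (hu : u ∈ Q) (hv : v ∈ Q) (n : ℕ) : D.bf (u ^ n) v = n * D.bf u v := by
  induction n with
  | zero =>
    rw [pow_zero, Nat.cast_zero, zero_mul]
    exact D.bf_Z (one_mem Z) hv
  | succ n ih => rw [pow_succ, D.bf_left (pow_mem hu n) hu hv, ih, Nat.cast_succ, add_mul, one_mul]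

theorem bf_conj {c u v : G} (hc : c ∈ centralizer (Z : Set G)) (hu : u ∈ Q) (hv : v ∈ Q) :
    D.bf (c * u * c⁻¹) (c * v * c⁻¹) = D.bf u v := by
  unfold bf
  rw [show ⁅c * u * c⁻¹, c * v * c⁻¹⁆ = c * ⁅u, v⁆ * c⁻¹ by simp only [commutatorElement_def]; group,
    D.base.conj_Z hc (D.base.br_mem hu hv)]

variable {s : G}

/-- The matrix of the action (the hypotheses on `s` only fix the coordinates). -/
noncomputable def mat (_hs : s ∈ Q2) (_hbs : ⁅b, s⁆ = z) (c : G) : Matrix (Fin 2) (Fin 2) (ZMod 3) :=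
  !![D.bf (c * b * c⁻¹) s, D.bf (c * s * c⁻¹) s; D.bf b (c * b * c⁻¹), D.bf b (c * s * c⁻¹)]

variable (hs : s ∈ Q2) (hbs : ⁅b, s⁆ = z)
include hs hbs

/-- The first coordinate modulo `Z`. -/
theorem bf_coords {u v : G} (hu : u ∈ Q2) (hv : v ∈ Q) :
    D.bf u v = D.bf u s * D.bf b v + D.bf b u * D.bf s v := by
  obtain ⟨i, j, k, rfl⟩ :=
    (D.base.factor_coords D.base.le2 D.base.card2 D.base.Z2 D.b_mem hs D.z_mem D.z_ne hbs).1 u hu
  have hb := D.b_Q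
  have hsQ := D.base.le2 hs
  have hbs' : D.bf b s = 1 := by
    unfold bf
    rw [hbs, D.lg_z]
  have key : ∀ w ∈ Q, D.bf (b ^ (i : ℕ) * s ^ (j : ℕ) * z ^ (k : ℕ)) w =
      (i : ℕ) * D.bf b w + (j : ℕ) * D.bf s w := fun w hw => by
    rw [D.bf_left (mul_mem (pow_mem hb _) (pow_mem hsQ _)) (pow_mem D.z_Q _) hw,
      D.bf_left (pow_mem hb _) (pow_mem hsQ _) hw, D.bf_Z (pow_mem D.z_mem _) hw, add_zero, D.bf_pow hb hw,
      D.bf_pow hsQ hw]
  have hu' : b ^ (i : ℕ) * s ^ (j : ℕ) * z ^ (k : ℕ) ∈ Q :=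
    mul_mem (mul_mem (pow_mem hb _) (pow_mem hsQ _)) (pow_mem D.z_Q _)
  rw [key v hv, D.bf_anti hu' hb, key s hsQ, key b hb, D.bf_self, D.bf_self, D.bf_anti hb hsQ, hbs']
  ring

theorem mat_det {c : G} (hc : c ∈ centralizer (Z : Set G)) (hb : c * b * c⁻¹ ∈ Q2) :
    (D.mat hs hbs c).det = 1 := by
  have h := D.bf_coords hs hbs hb (D.base.conj_memQ hc (D.base.le2 hs))
  have hbs' : D.bf b s = 1 := by
    unfold bf
    rw [hbs, D.lg_z]
  rw [D.bf_conj hc D.b_Q (D.base.le2 hs), hbs', D.bf_anti (D.base.conj_memQ hc (D.base.le2 hs)) (D.base.le2 hs)]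
    at h
  rw [mat, Matrix.det_fin_two_of]
  linear_combination -h

theorem mat_mul {c d : G} (hc : c ∈ centralizer (Z : Set G)) (hd : d ∈ centralizer (Z : Set G))
    (hdb : d * b * d⁻¹ ∈ Q2) (hds : d * s * d⁻¹ ∈ Q2) (hcn : ∀ x ∈ Q2, c * x * c⁻¹ ∈ Q2) :
    D.mat hs hbs (c * d) = D.mat hs hbs c * D.mat hs hbs d := by
  have hsQ := D.base.le2 hs
  have hbQ := D.b_Q
  -- linearity of conjugation in coordinates
  have lin : ∀ u ∈ Q2, D.bf (c * u * c⁻¹) s = D.bf u s * D.bf (c * b * c⁻¹) s + D.bf b u * D.bf (c * s * c⁻¹) s ∧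
      D.bf b (c * u * c⁻¹) = D.bf u s * D.bf b (c * b * c⁻¹) + D.bf b u * D.bf b (c * s * c⁻¹) := by
    intro u hu
    have hci := inv_mem hc
    have h1 : ∀ w ∈ Q, D.bf (c * u * c⁻¹) w =
        D.bf u s * D.bf (c * b * c⁻¹) w + D.bf b u * D.bf (c * s * c⁻¹) w := by
      intro w hw
      have hw' := D.base.conj_memQ hci hw
      have e : ∀ x ∈ Q, D.bf (c * x * c⁻¹) w = D.bf x (c⁻¹ * w * c⁻¹⁻¹) := fun x hx => by
        rw [← D.bf_conj hc hx hw']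
        congr 1
        group
      rw [e u (D.base.le2 hu), e b hbQ, e s hsQ]
      exact D.bf_coords hs hbs hu hw'
    refine ⟨h1 s hsQ, ?_⟩
    rw [D.bf_anti (D.base.conj_memQ hc (D.base.le2 hu)) hbQ, h1 b hbQ,
      D.bf_anti (D.base.conj_memQ hc hbQ) hbQ, D.bf_anti (D.base.conj_memQ hc hsQ) hbQ]
    ring
  obtain ⟨h1, h2⟩ := lin _ hdb
  obtain ⟨h3, h4⟩ := lin _ hds
  have e : ∀ x : G, c * d * x * (c * d)⁻¹ = c * (d * x * d⁻¹) * c⁻¹ := fun x => by group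
  simp only [mat, e, h1, h2, h3, h4, Matrix.mul_fin_two]
  congr 1
  simp only [Matrix.vecCons_inj, and_true]
  refine ⟨⟨?_, ?_⟩, ?_, ?_⟩ <;> ring

theorem mat_eq_one {c : G} (hc : c ∈ centralizer (Z : Set G)) (hcb : c * b * c⁻¹ ∈ Q2)
    (hcs : c * s * c⁻¹ ∈ Q2) :
    D.mat hs hbs c = 1 ↔ b⁻¹ * (c * b * c⁻¹) ∈ Z ∧ s⁻¹ * (c * s * c⁻¹) ∈ Z := by
  have hsQ := D.base.le2 hs
  have hbQ := D.b_Q
  have hbs' : D.bf b s = 1 := by
    unfold bf
    rw [hbs, D.lg_z]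
  -- coordinates determine the class
  have det : ∀ u ∈ Q2, ∀ v ∈ Q2, D.bf u s = D.bf v s → D.bf b u = D.bf b v → u⁻¹ * v ∈ Z := by
    intro u hu v hv e1 e2
    have hw : u⁻¹ * v ∈ Q2 := mul_mem (inv_mem hu) hv
    have k : ∀ x ∈ Q, D.bf (u⁻¹ * v) x = -D.bf u x + D.bf v x := fun x hx => by
      have h0 := D.bf_left (inv_mem (D.base.le2 hu)) (D.base.le2 hu) hx
      rw [inv_mul_cancel, D.bf_Z (one_mem Z) hx] at h0
      rw [D.bf_left (inv_mem (D.base.le2 hu)) (D.base.le2 hv) hx, eq_neg_of_add_eq_zero_left h0.symm]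
    have ha : D.bf (u⁻¹ * v) s = 0 := by rw [k s hsQ, e1, neg_add_cancel]
    have hb' : D.bf b (u⁻¹ * v) = 0 := by
      rw [D.bf_anti (D.base.le2 hw) hbQ, k b hbQ, D.bf_anti hbQ (D.base.le2 hu), D.bf_anti hbQ (D.base.le2 hv),
        e2]
      ring
    refine D.base.mem_Z_of_comm (D.base.le2 hw) fun x hx => ?_
    have h0 : D.bf (u⁻¹ * v) x = 0 := by rw [D.bf_coords hs hbs hw hx, ha, hb', zero_mul, zero_mul, add_zero]
    have hbr := D.base.br_mem (D.base.le2 hw) hx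
    unfold bf at h0
    have := D.lg_spec hbr
    rw [h0, ZMod.val_zero, pow_zero] at this
    exact (D.base.br_eq_one.1 this.symm).symm
  constructor
  · intro h
    have h00 := congrFun (congrFun h 0) 0
    have h01 := congrFun (congrFun h 0) 1
    have h10 := congrFun (congrFun h 1) 0
    have h11 := congrFun (congrFun h 1) 1
    simp [mat] at h00 h01 h10 h11
    exact ⟨det b D.b_mem _ hcb (by rw [hbs', h00]) (by rw [D.bf_self, h10]),
      det s hs _ hcs (by rw [D.bf_self, h01]) (by rw [hbs', h11])⟩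
  · rintro ⟨hwb, hws⟩
    have eb : c * b * c⁻¹ = b * (b⁻¹ * (c * b * c⁻¹)) := by group
    have es : c * s * c⁻¹ = s * (s⁻¹ * (c * s * c⁻¹)) := by group
    have kb : ∀ x ∈ Q, D.bf (c * b * c⁻¹) x = D.bf b x := fun x hx => by
      rw [eb, D.bf_left hbQ (D.base.Z_leQ hwb) hx, D.bf_Z hwb hx, add_zero]
    have ks : ∀ x ∈ Q, D.bf (c * s * c⁻¹) x = D.bf s x := fun x hx => by
      rw [es, D.bf_left hsQ (D.base.Z_leQ hws) hx, D.bf_Z hws hx, add_zero]
    rw [mat, D.bf_anti (D.base.le2 hcb) hbQ, D.bf_anti (D.base.le2 hcs) hbQ, kb s hsQ, kb b hbQ, ks s hsQ,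
      ks b hbQ, D.bf_self, D.bf_self, hbs', D.bf_anti hbQ hsQ, hbs']
    simp [Matrix.one_fin_two]

theorem conj_Q2 {c : G} (hc : c ∈ centralizer (Z : Set G) ⊓ centralizer ({a} : Set G)) {x : G} (hx : x ∈ Q2) :
    c * x * c⁻¹ ∈ Q2 :=
  (D.factors_of_fix hc.1 (D.fix_mod_of_comm (mem_centralizer_singleton_iff.1 hc.2))).2 x hx

/-- The action on `Q₂ / Z`. -/
noncomputable def sl : ↥(centralizer (Z : Set G) ⊓ centralizer ({a} : Set G)) →*
    Matrix.SpecialLinearGroup (Fin 2) (ZMod 3) :=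
  MonoidHom.mk' (fun c => ⟨D.mat hs hbs c, D.mat_det hs hbs c.2.1 (D.conj_Q2 hs hbs c.2 D.b_mem)⟩)
    fun c d => Subtype.ext (D.mat_mul hs hbs c.2.1 d.2.1 (D.conj_Q2 hs hbs d.2 D.b_mem)
      (D.conj_Q2 hs hbs d.2 hs) fun _ hx => D.conj_Q2 hs hbs c.2 hx)

theorem sl_eq_one (c : ↥(centralizer (Z : Set G) ⊓ centralizer ({a} : Set G))) :
    D.sl hs hbs c = 1 ↔ (c : G) ∈ Q := by
  refine Iff.trans (⟨fun h => congrArg Subtype.val h, fun h => Subtype.ext h⟩ :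
    D.sl hs hbs c = 1 ↔ D.mat hs hbs c = 1) ?_
  rw [D.mat_eq_one hs hbs c.2.1 (D.conj_Q2 hs hbs c.2 D.b_mem) (D.conj_Q2 hs hbs c.2 hs)]
  constructor
  · rintro ⟨hb, hsz⟩
    have hca := mem_centralizer_singleton_iff.1 c.2.2
    have hm : (c : G) ∈ D.stab := ⟨c.2.1, D.fix_mod_of_comm hca, hb⟩
    rw [D.stab_eq] at hm
    obtain ⟨q, hq, i, e⟩ := D.mem_QY hm
    by_cases hi : i = 0
    · subst hi
      rw [e, Fin.val_zero, pow_zero, mul_one]
      exact hq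
    exfalso
    obtain ⟨x, hx, hne⟩ := D.y_diag2
    refine hne ?_
    -- `y ^ i` is trivial on `Q₂ / Z`
    have hyi : y ^ (i : ℕ) = q⁻¹ * (c : G) := by rw [e, inv_mul_cancel_left]
    have tr : ∀ g : G, g ∈ centralizer (Z : Set G) → b⁻¹ * (g * b * g⁻¹) ∈ Z →
        s⁻¹ * (g * s * g⁻¹) ∈ Z → x⁻¹ * (g * x * g⁻¹) ∈ Z := by
      intro g hg h1 h2
      obtain ⟨i', j', k', rfl⟩ :=
        (D.base.factor_coords D.base.le2 D.base.card2 D.base.Z2 D.b_mem hs D.z_mem D.z_ne hbs).1 x hx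
      have key : ∀ u : G, u⁻¹ * (g * u * g⁻¹) ∈ Z → ∀ v : G, v ∈ Q → v⁻¹ * (g * v * g⁻¹) ∈ Z →
          (u * v)⁻¹ * (g * (u * v) * g⁻¹) ∈ Z := fun u h1 v hv h2 => by
        have e : (u * v)⁻¹ * (g * (u * v) * g⁻¹) =
            v⁻¹ * (u⁻¹ * (g * u * g⁻¹)) * v * (v⁻¹ * (g * v * g⁻¹)) := by group
        rw [e, mul_assoc v⁻¹, ← (D.base.Z_comm hv h1).eq, inv_mul_cancel_left]
        exact mul_mem h1 h2
      have hpow : ∀ u : G, u ∈ Q → u⁻¹ * (g * u * g⁻¹) ∈ Z → ∀ n : ℕ,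
          (u ^ n)⁻¹ * (g * u ^ n * g⁻¹) ∈ Z := fun u hu h1 n => by
        induction n with
        | zero => simp
        | succ n ih => rw [pow_succ]; exact key _ ih u hu h1
      exact key _ (key _ (hpow b D.b_Q h1 _) _ (pow_mem (D.base.le2 hs) _) (hpow s (D.base.le2 hs) h2 _)) _
        (pow_mem D.z_Q _) (D.fix_mod_of_comm (D.base.fix_Z hg (pow_mem D.z_mem _)))
    have hqC := D.base.Q_le (inv_mem hq)
    have hq' : ∀ u ∈ Q, u⁻¹ * (q⁻¹ * u * q⁻¹⁻¹) ∈ Z := fun u hu => by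
      rw [show u⁻¹ * (q⁻¹ * u * q⁻¹⁻¹) = ⁅u⁻¹, q⁻¹⁆ by rw [commutatorElement_def]; group]
      exact D.base.br_mem (inv_mem hu) (inv_mem hq)
    have hyib : b⁻¹ * (y ^ (i : ℕ) * b * (y ^ (i : ℕ))⁻¹) ∈ Z := by
      rw [hyi]; exact D.shift_mul hqC (hq' b D.b_Q) hb
    have hyis : s⁻¹ * (y ^ (i : ℕ) * s * (y ^ (i : ℕ))⁻¹) ∈ Z := by
      rw [hyi]; exact D.shift_mul hqC (hq' s (D.base.le2 hs)) hsz
    have hyx := tr _ (pow_mem D.y_cent _) hyib hyis
    have hii : (y ^ (i : ℕ)) ^ (i : ℕ) = y := by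
      rw [← pow_mul, pow_mod_three D.y_cube]
      have : (i : ℕ) * (i : ℕ) % 3 = 1 :=
        (show ∀ k : Fin 3, k ≠ 0 → (k : ℕ) * (k : ℕ) % 3 = 1 by decide) i hi
      rw [this, pow_one]
    have iter : ∀ n : ℕ, x⁻¹ * ((y ^ (i : ℕ)) ^ n * x * ((y ^ (i : ℕ)) ^ n)⁻¹) ∈ Z := fun n => by
      induction n with
      | zero => simp
      | succ n ih => rw [pow_succ]; exact D.shift_mul (pow_mem (pow_mem D.y_cent _) _) ih hyx
    have := iter (i : ℕ)
    rwa [hii] at this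
  · intro hq
    constructor
    · rw [show b⁻¹ * ((c : G) * b * (c : G)⁻¹) = ⁅b⁻¹, (c : G)⁆ by rw [commutatorElement_def]; group]
      exact D.base.br_mem (inv_mem D.b_Q) hq
    · rw [show s⁻¹ * ((c : G) * s * (c : G)⁻¹) = ⁅s⁻¹, (c : G)⁆ by rw [commutatorElement_def]; group]
      exact D.base.br_mem (inv_mem (D.base.le2 hs)) hq

theorem sl_surjective : Function.Surjective (D.sl hs hbs) := by
  classical
  set C := centralizer (Z : Set G) ⊓ centralizer ({a} : Set G)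
  have hL : L2 ≤ C := le_inf D.base.L2_le fun l hl =>
    mem_centralizer_singleton_iff.2 (mem_centralizer_iff.1 (D.base.L2_cent hl) a D.a_mem).symm
  set r := (D.sl hs hbs).range
  have hyC : y ∈ C := ⟨D.y_cent, mem_centralizer_singleton_iff.2 D.y_a⟩
  have hdis : ∀ w : G, w ∈ Q → w ^ 8 = 1 → w = 1 := fun w hw h8 => by
    have h3 := D.base.cube w hw
    calc w = w ^ 8 * w := by rw [h8, one_mul]
      _ = (w ^ 3) ^ 3 := by simp [pow_succ, mul_assoc]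
      _ = 1 := by rw [h3, one_pow]
  have hinj : Function.Injective ((D.sl hs hbs).comp (Subgroup.inclusion hL)) := by
    refine (injective_iff_map_eq_one _).2 fun l hl => Subtype.ext (hdis _ ((D.sl_eq_one hs hbs _).1 hl) ?_)
    obtain ⟨eq⟩ := D.base.L2_quat
    have h8 : l ^ 8 = 1 := eq.injective (by
      rw [map_pow, map_one]; exact (show ∀ v : QuaternionGroup 2, v ^ 8 = 1 by decide) _)
    exact congrArg Subtype.val h8
  have h8 : 8 ∣ Nat.card r := by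
    have h1 : Nat.card ((D.sl hs hbs).comp (Subgroup.inclusion hL)).range ∣ Nat.card r :=
      card_dvd_of_le (by rintro _ ⟨l, rfl⟩; exact ⟨_, rfl⟩)
    rw [← Nat.card_congr (MonoidHom.ofInjective hinj).toEquiv] at h1
    obtain ⟨eq⟩ := D.base.L2_quat
    rw [Nat.card_congr eq.toEquiv, Nat.card_eq_fintype_card, QuaternionGroup.card] at h1
    exact h1
  have h3 : 3 ∣ Nat.card r := by
    have hne : D.sl hs hbs ⟨y, hyC⟩ ≠ 1 := fun h => D.y_not ((D.sl_eq_one hs hbs _).1 h)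
    have hyo : (D.sl hs hbs ⟨y, hyC⟩) ^ 3 = 1 := by
      rw [← map_pow, show (⟨y, hyC⟩ : ↥C) ^ 3 = 1 from Subtype.ext D.y_cube, map_one]
    have := Subgroup.orderOf_dvd_natCard r (show D.sl hs hbs ⟨y, hyC⟩ ∈ r from ⟨_, rfl⟩)
    rwa [orderOf_three hyo hne] at this
  have h24 : 24 ∣ Nat.card r := Nat.Coprime.mul_dvd_of_dvd_of_dvd (by norm_num : Nat.Coprime 8 3) h8 h3
  have hcard : Nat.card (Matrix.SpecialLinearGroup (Fin 2) (ZMod 3)) = 24 := by
    rw [Nat.card_eq_fintype_card]; decide +kernel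
  rw [← MonoidHom.range_eq_top]
  refine eq_top_of_le_card _ ?_
  rw [hcard]
  exact Nat.le_of_dvd Nat.card_pos h24

end Local

end Cfsg.Agent.FFourLocal
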